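import Cfsg.Agent.Lib.Char.NoDiv.Layer

/-!
# The kernel is abelian, so all nonlinear degrees equal its index
-/

set_option autoImplicit false
set_option linter.unusedSectionVars false

namespace CfsgLib.Char.NoDiv

open Cfsg CfsgLib CfsgLib.Char
open scoped commutatorElement

universe u

variable {F : Type u} [Group F]

namespace Ctx

variable [Fintype F] {α : MulAut F} {E R L : Subgroup F} {q : ℕ}
variable [L.Normal] [Fintype L] [Fintype (F ⧸ L)]

theorem comp_mem_psi (c : Ctx α E R L q) {μ : L →* ℂˣ} (h : μ ∈ psi L q) :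
    μ.comp (restr α L c.fixL).toMonoidHom ∈ psi L q := by
  obtain ⟨⟨i, hi⟩, hN⟩ := (mem_psi L q).1 h
  refine (mem_psi L q).2 ⟨⟨i, MonoidHom.ext fun y => ?_⟩, ?_⟩
  · have := DFunLike.congr_fun hi (restr α L c.fixL y)
    simpa [MonoidHom.pow_apply] using this
  · rw [normMap_comp_restr, hN, MonoidHom.one_comp]

/-- The moved characters cannot be determined by one element. -/
theorem not_cyclic (c : Ctx α E R L q) (x₀ : L)
    (hgen : ∀ x : L, ∃ j : ℤ, (x₀ ^ j)⁻¹ * x ∈ psiKer L q) : False := by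
  have hdet : ∀ μ ∈ psi L q, ∀ ν ∈ psi L q, μ x₀ = ν x₀ → μ = ν := by
    intro μ hμ ν hν e
    refine MonoidHom.ext fun x => ?_
    obtain ⟨j, hj⟩ := hgen x
    have key : ∀ ρ ∈ psi L q, ρ x = ρ x₀ ^ j := fun ρ hρ => by
      have h := (mem_psiKer L q).1 hj ρ hρ
      rw [map_mul, map_inv, map_zpow, inv_mul_eq_one] at h
      exact h.symm
    rw [key μ hμ, key ν hν, e]
  obtain ⟨x, hx⟩ := c.exists_moves
  obtain ⟨μ, hμ, hμ1⟩ := c.exists_psi_ne_one
  refine hμ1 (c.psi_free hμ hx ?_)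
  -- conjugation and `α` are powers on the moved characters
  obtain ⟨m, hm⟩ := hgen ⟨x * x₀ * x⁻¹, c.fq.normalL.conj_mem _ x₀.2 x⟩
  obtain ⟨a, ha⟩ := hgen (restr α L c.fixL x₀)
  have hconj : ∀ ρ ∈ psi L q, cj L x ρ x₀ = ρ x₀ ^ m := fun ρ hρ => by
    have h := (mem_psiKer L q).1 hm ρ hρ
    rw [map_mul, map_inv, map_zpow, inv_mul_eq_one] at h
    rw [cj_apply, h]
  have halpha : ∀ ρ ∈ psi L q, ρ (restr α L c.fixL x₀) = ρ x₀ ^ a := fun ρ hρ => by
    have h := (mem_psiKer L q).1 ha ρ hρ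
    rw [map_mul, map_inv, map_zpow, inv_mul_eq_one] at h
    exact h.symm
  have hcomm : cj L (α x) μ = cj L x μ := by
    refine MonoidHom.ext fun y => ?_
    obtain ⟨z, rfl⟩ := (restr α L c.fixL).surjective y
    have h1 : (cj L x μ).comp (restr α L c.fixL).toMonoidHom =
        cj L x (μ.comp (restr α L c.fixL).toMonoidHom) := by
      refine hdet _ (c.comp_mem_psi (cj_mem_psi L q hμ x)) _ (cj_mem_psi L q (c.comp_mem_psi hμ) x) ?_
      rw [MonoidHom.comp_apply, MulEquiv.coe_toMonoidHom, halpha _ (cj_mem_psi L q hμ x), hconj _ hμ,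
        hconj _ (c.comp_mem_psi hμ), MonoidHom.comp_apply, MulEquiv.coe_toMonoidHom, halpha _ hμ,
        zpow_comm]
    have h2 := DFunLike.congr_fun h1 z
    rw [MonoidHom.comp_apply, MulEquiv.coe_toMonoidHom, cj_apply L x (μ.comp _), MonoidHom.comp_apply,
      MulEquiv.coe_toMonoidHom] at h2
    rw [h2, cj_apply]
    exact congrArg μ (Subtype.ext (by simp [restr_apply]))
  rw [cj_mul, hcomm, ← cj_mul, mul_inv_cancel, cj_one]

/-- The kernel is abelian. -/
theorem comm (c : Ctx α E R L q) (a b : L) : a * b = b * a := by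
  classical
  obtain ⟨P, hPn, hPc, ⟨k, hk⟩, hP⟩ := c.exists_complement
  have hq := c.fq.prime
  have hcP : commutator L ≤ P := c.commutator_le_complement ⟨k, hk⟩ hP
  by_contra hne
  have hne' : commutator L ≠ ⊥ := fun hb => hne (commutatorElement_eq_one_iff_mul_comm.1
    (Subgroup.mem_bot.1 (hb ▸ by
      rw [commutator_def]
      exact Subgroup.commutator_mem_commutator (Subgroup.mem_top a) (Subgroup.mem_top b))))
  obtain ⟨H, hH⟩ := Subgroup.exists_right_complement'_of_coprime (N := P) (by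
    rw [hk]
    exact hPc.pow_right k)
  have hdisj : ∀ x ∈ P, x ∈ H → x = 1 := fun x hxP hxH =>
    Subgroup.mem_bot.1 (hH.isCompl.inf_eq_bot ▸ (⟨hxP, hxH⟩ : x ∈ P ⊓ H))
  have hHab : ∀ x ∈ H, ∀ y ∈ H, x * y = y * x := fun x hx y hy =>
    commutatorElement_eq_one_iff_mul_comm.1 (hdisj _ (hcP (by
      rw [commutator_def]
      exact Subgroup.commutator_mem_commutator (Subgroup.mem_top x) (Subgroup.mem_top y)))
      (by rw [commutatorElement_def]; exact mul_mem (mul_mem (mul_mem hx hy) (inv_mem hx)) (inv_mem hy)))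
  have hPK : ∀ x ∈ P, x ∈ psiKer L q := fun x hx => c.mem_psiKer_of_coprime ((hP x).1 hx)
  -- elements outside the common kernel fix no commutator
  have hfix : ∀ v ∈ H, v ∉ psiKer L q → ∀ d ∈ commutator L, v * d = d * v → d = 1 := by
    intro v hv hvK d hd hvd
    have hdlin : ∀ f : L →* ℂˣ, f d = 1 := fun f =>
      MonoidHom.mem_ker.1 (Abelianization.commutator_subset_ker f hd)
    have hvdK : v * d ∉ psiKer L q := fun h => hvK ((mem_psiKer L q).2 fun μ hμ => by
      have h1 := (mem_psiKer L q).1 h μ hμ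
      rwa [map_mul, hdlin, mul_one] at h1)
    have hconj : IsConj (v * d) v := isConj_of_irr_agree fun χ => by
      by_cases hχ : charDegree (χ : L → ℂ) = 1
      · obtain ⟨f, hf⟩ := exists_hom_of_linear (isCharacter_irr χ)
          ((degree_eq_iff χ 1).1 hχ |>.trans Nat.cast_one)
        rw [congrFun hf, congrFun hf, map_mul, hdlin, mul_one]
      · rw [c.vanish χ hχ hvdK, c.vanish χ hχ hvK]
    obtain ⟨g, hg⟩ := isConj_iff.1 hconj
    have ho : orderOf (v * d) = orderOf v := by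
      have h1 := congrArg orderOf hg
      rwa [← MulAut.conj_apply, MulEquiv.orderOf_eq] at h1
    have hdq : (orderOf d).Coprime q := (hP d).1 (hcP hd)
    have hvq : orderOf v ∣ q ^ k := by
      rw [← hk, hH.symm.index_eq_card]
      rw [← Subgroup.orderOf_mk v hv]
      exact orderOf_dvd_natCard _
    rw [(show Commute v d from hvd).orderOf_mul_eq_mul_orderOf_of_coprime
      ((hdq.pow_right k).coprime_dvd_right hvq).symm] at ho
    exact orderOf_eq_one_iff.1 ((Nat.mul_eq_left (orderOf_pos v).ne').1 ho)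
  -- a largest subgroup centralizing some commutator
  obtain ⟨U, ⟨hUH, hUD⟩, hUmax⟩ := Set.Finite.exists_maximal
    (s := {U : Subgroup L | U ≤ H ∧ commutator L ⊓ Subgroup.centralizer (U : Set L) ≠ ⊥})
    (Set.toFinite _) ⟨⊥, bot_le, by
      have : Subgroup.centralizer ((⊥ : Subgroup L) : Set L) = ⊤ := by
        rw [eq_top_iff]
        intro x _
        rw [Subgroup.mem_centralizer_iff]
        intro y hy
        rw [Subgroup.mem_bot.1 hy, one_mul, mul_one]
      rwa [this, inf_top_eq]⟩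
  set D := commutator L ⊓ Subgroup.centralizer (U : Set L) with hD
  have hUK : ∀ u ∈ U, u ∈ psiKer L q := by
    intro u hu
    by_contra huK
    exact hUD ((Subgroup.eq_bot_iff_forall _).2 fun d hd =>
      hfix u (hUH hu) huK d hd.1 (Subgroup.mem_centralizer_iff.1 hd.2 u hu))
  set N := Subgroup.centralizer (U : Set L) with hN
  have hHN : H ≤ N := fun x hx => Subgroup.mem_centralizer_iff.2 fun u hu => hHab u (hUH hu) x hx
  haveI hUn : (U.subgroupOf N).Normal := ⟨fun u hu x => by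
    have h1 := Subgroup.mem_centralizer_iff.1 x.2 u (Subgroup.mem_subgroupOf.1 hu)
    have h2 : x * u * x⁻¹ = u := Subtype.ext (by
      show (x : L) * u * (x : L)⁻¹ = u
      rw [← h1, mul_inv_cancel_right])
    rwa [h2]⟩
  set π := QuotientGroup.mk' (U.subgroupOf N) with hπ
  set A := (H.subgroupOf N).map π with hA
  set K := (D.subgroupOf N).map π with hK
  haveI : IsMulCommutative A := ⟨⟨by
    rintro ⟨_, x, hx, rfl⟩ ⟨_, y, hy, rfl⟩
    refine Subtype.ext ?_
    show π x * π y = π y * π x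
    rw [← map_mul, ← map_mul,
      show x * y = y * x from Subtype.ext (hHab x (Subgroup.mem_subgroupOf.1 hx) y (Subgroup.mem_subgroupOf.1 hy))]⟩⟩
  have hnorm : A ≤ Subgroup.normalizer (K : Set (N ⧸ U.subgroupOf N)) := by
    have hDn : (D.subgroupOf N).Normal := ⟨fun d hd x => by
      refine Subgroup.mem_subgroupOf.2 ⟨?_, (x * d * x⁻¹).2⟩
      exact (inferInstance : (commutator L).Normal).conj_mem _ (Subgroup.mem_subgroupOf.1 hd).1 _⟩
    have : K.Normal := hDn.map π (QuotientGroup.mk'_surjective _)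
    rw [Subgroup.normalizer_eq_top_iff.2 this]
    exact le_top
  have hK1 : K ≠ ⊥ := by
    obtain ⟨⟨d, hd⟩, hd1⟩ := D.ne_bot_iff_exists_ne_one.1 hUD
    intro hb
    have h1 : π ⟨d, hd.2⟩ = 1 := by
      rw [← Subgroup.mem_bot, ← hb]
      exact Subgroup.mem_map_of_mem π (Subgroup.mem_subgroupOf.2 hd)
    have h2 := Subgroup.mem_subgroupOf.1 ((QuotientGroup.eq_one_iff _).1 h1)
    exact hd1 (Subtype.ext (hdisj d (hcP hd.1) (hUH h2)))
  have hfpf : Coprime.IsFpfOn A K := by
    rintro _ ⟨x, hx, rfl⟩ hx1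
    refine (Subgroup.eq_bot_iff_forall _).2 fun z hz => ?_
    obtain ⟨⟨d, hd, rfl⟩, hzc⟩ := hz
    have hxH := Subgroup.mem_subgroupOf.1 hx
    have hdD := Subgroup.mem_subgroupOf.1 hd
    have hxU : (x : L) ∉ U := fun h => hx1 ((QuotientGroup.eq_one_iff x).2 (Subgroup.mem_subgroupOf.2 h))
    have hc : (x : L) * d = d * x := by
      have h1 : π x * π d = π d * π x := (Subgroup.mem_centralizer_singleton_iff.1 hzc).symm
      have h2 : ⁅(x : L), (d : L)⁆ ∈ U := by
        refine Subgroup.mem_subgroupOf.1 (show ⁅x, d⁆ ∈ U.subgroupOf N from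
          (QuotientGroup.eq_one_iff _).1 (?_ : π ⁅x, d⁆ = 1))
        rw [map_commutatorElement, commutatorElement_eq_one_iff_mul_comm.2 h1]
      exact commutatorElement_eq_one_iff_mul_comm.1 (hdisj _ (hcP (by
        rw [commutator_def]
        exact Subgroup.commutator_mem_commutator (Subgroup.mem_top _) (Subgroup.mem_top _))) (hUH h2))
    set U' := U ⊔ Subgroup.zpowers (x : L) with hU'
    have hbot : commutator L ⊓ Subgroup.centralizer (U' : Set L) = ⊥ := by
      by_contra hne2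
      have hle : U' ≤ H := sup_le hUH (Subgroup.zpowers_le.2 hxH)
      exact hxU (hUmax ⟨hle, hne2⟩ le_sup_left (Subgroup.mem_sup_right (Subgroup.mem_zpowers _)))
    have hd1 : (d : L) = 1 := by
      rw [← Subgroup.mem_bot, ← hbot]
      refine ⟨hdD.1, ?_⟩
      have hsup : U' ≤ Subgroup.centralizer {(d : L)} := by
        refine sup_le (fun u hu => ?_) (Subgroup.zpowers_le.2 ?_)
        · exact Subgroup.mem_centralizer_singleton_iff.2 (Subgroup.mem_centralizer_iff.1 hdD.2 u hu)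
        · exact Subgroup.mem_centralizer_singleton_iff.2 hc
      exact Subgroup.mem_centralizer_iff.2 fun u hu =>
        Subgroup.mem_centralizer_singleton_iff.1 (hsup hu)
    rw [show d = 1 from Subtype.ext hd1, map_one]
  haveI := hfpf.isCyclic hnorm hK1
  obtain ⟨⟨_, x₀, hx₀, rfl⟩, hgen⟩ := IsCyclic.exists_generator (α := A)
  refine c.not_cyclic (x₀ : L) fun y => ?_
  obtain ⟨⟨⟨p, hp⟩, ⟨h, hh⟩⟩, hph⟩ := hH.2 y
  obtain ⟨j, hj⟩ := hgen ⟨π ⟨h, hHN hh⟩, Subgroup.mem_map_of_mem π (Subgroup.mem_subgroupOf.2 hh)⟩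
  have hj' : π (x₀ ^ j) = π ⟨h, hHN hh⟩ := by
    rw [map_zpow]
    exact congrArg Subtype.val hj
  have hmem : ((x₀ : L) ^ j)⁻¹ * h ∈ U := Subgroup.mem_subgroupOf.1 (QuotientGroup.eq.1 hj')
  refine ⟨j, (mem_psiKer L q).2 fun μ hμ => ?_⟩
  have h1 := (mem_psiKer L q).1 (hUK _ hmem) μ hμ
  have h2 := (mem_psiKer L q).1 (hPK p hp) μ hμ
  rw [map_mul, map_inv] at h1
  rw [← hph, map_mul, map_inv]
  show _ * μ (p * h) = 1
  rw [map_mul, h2, one_mul, h1]

/-- All nonlinear degrees equal the index. -/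
theorem degree_eq (c : Ctx α E R L q) (χ : IrrCharacter F) (hχ : charDegree (χ : F → ℂ) ≠ 1) :
    charDegree (χ : F → ℂ) = L.index := by
  have hdvd := degree_dvd_index_abelian F L (fun a ha b hb => congrArg Subtype.val
    (c.comm ⟨a, ha⟩ ⟨b, hb⟩)) (χ : F → ℂ) χ.2 _ (Block.ItoMichler.one_eq_cast χ)
  have := degree_pos χ
  exact c.hyp.nd.eq_of_dvd ⟨χ, rfl⟩ c.index_mem (by omega) hdvd

end Ctx

/-- If there is a nonabelian minimal quotient, all nonlinear degrees coincide. -/
theorem Hyp.degree_unique [Fintype F] [Group.IsSolvable F] {α : MulAut F} {E : Subgroup F}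
    (h : Hyp α E) (χ ψ : IrrCharacter F) (hχ : charDegree (χ : F → ℂ) ≠ 1)
    (hψ : charDegree (ψ : F → ℂ) ≠ 1) :
    charDegree (χ : F → ℂ) = charDegree (ψ : F → ℂ) := by
  classical
  have hna : ∃ a b : F, a * b ≠ b * a := by
    by_contra hc
    push Not at hc
    refine hχ ((degree_eq_iff χ 1).2 ?_)
    rw [Nat.cast_one]
    exact degree_one_of_comm hc χ
  rcases exists_minQuot hna with ⟨K, hK, p, hp, hP, hKG⟩ | ⟨K, L, q, fq⟩
  · exact all_eq_of_pQuotient h.nd K hp hP hKG χ ψ hχ hψ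
  · haveI := fq.normalL
    have := Fintype.ofFinite L
    have := Fintype.ofFinite (F ⧸ L)
    have c := exists_ctx h fq
    rw [c.degree_eq χ hχ, c.degree_eq ψ hψ]

end CfsgLib.Char.NoDiv
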