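import Cfsg.Agent.Lib.DegComp.Solvable
import Cfsg.Agent.Lib.Char.ExtendCriteria
import Cfsg.Agent.Lib.Char.ThreeDegrees

/-!
# No divisibility among nonlinear character degrees

Clifford correspondence tools and the case of a nonabelian quotient of prime power order: then all
nonlinear degrees coincide.
-/

set_option autoImplicit false
set_option linter.unusedSectionVars false

namespace CfsgLib.Char.NoDiv

open Cfsg CfsgLib CfsgLib.Char
open scoped ComplexConjugate commutatorElement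

universe u

variable {G : Type u} [Group G]

/-- No degree greater than one divides a larger degree. -/
def NoDvd (G : Type u) [Group G] : Prop :=
  ∀ a ∈ charDegrees G, ∀ b ∈ charDegrees G, 1 < a → a < b → ¬ a ∣ b

theorem degree_pos [Finite G] (χ : IrrCharacter G) : 0 < charDegree (χ : G → ℂ) := by
  refine Nat.pos_of_ne_zero fun e => irr_one_ne_zero χ ?_
  rw [Block.ItoMichler.one_eq_cast, e, Nat.cast_zero]

theorem pos_of_mem [Finite G] {d : ℕ} (h : d ∈ charDegrees G) : 0 < d := by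
  obtain ⟨χ, rfl⟩ := h
  exact degree_pos χ

theorem degree_eq_iff [Finite G] (χ : IrrCharacter G) (d : ℕ) :
    charDegree (χ : G → ℂ) = d ↔ (χ : G → ℂ) 1 = (d : ℂ) := by
  rw [Block.ItoMichler.one_eq_cast, Nat.cast_inj]

theorem NoDvd.eq_of_dvd [Finite G] (h : NoDvd G) {a b : ℕ} (ha : a ∈ charDegrees G)
    (hb : b ∈ charDegrees G) (h1 : 1 < a) (hd : a ∣ b) : a = b := by
  by_contra hne
  exact h a ha b hb h1 (lt_of_le_of_ne (Nat.le_of_dvd (pos_of_mem hb) hd) hne) hd

theorem NoDvd.eq_one_of_mul [Finite G] (h : NoDvd G) {a k : ℕ} (ha : a ∈ charDegrees G)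
    (hb : a * k ∈ charDegrees G) (h1 : 1 < a) : k = 1 :=
  (Nat.mul_eq_left (by omega : a ≠ 0)).1 (h.eq_of_dvd ha hb h1 (dvd_mul_right a k)).symm

section Above

variable [Fintype G] (L : Subgroup G) [L.Normal] [Fintype L] (φ : IrrCharacter L)

/-- A character of the inertia group over `φ` induces irreducibly. -/
theorem exists_ind_over {T : Subgroup G} (hT : T = inertia L (φ : L → ℂ)) (hLT : L ≤ T) [Fintype T]
    (ψ : IrrCharacter T)
    (h : classInner (fun n : L => (ψ : T → ℂ) (Subgroup.inclusion hLT n)) (φ : L → ℂ) ≠ 0) :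
    ∃ χ : IrrCharacter G, (χ : G → ℂ) = indFun T (ψ : T → ℂ) ∧
      charDegree (χ : G → ℂ) = T.index * charDegree (ψ : T → ℂ) ∧
      classInner (fun n : L => (χ : G → ℂ) n) (φ : L → ℂ) =
        classInner (fun n : L => (ψ : T → ℂ) (Subgroup.inclusion hLT n)) (φ : L → ℂ) := by
  classical
  obtain ⟨χ, hχ⟩ := Block.ItoMichler.exists_irr_over T ψ
  have hχT : IsCharacter T (fun t : T => (χ : G → ℂ) t) :=
    isCharacter_comp (isCharacter_irr χ) T.subtype
  obtain ⟨s, hs⟩ := classInner_isCharacter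
    (isCharacter_comp (isCharacter_sub_constituent hχT ψ hχ) (Subgroup.inclusion hLT))
    (isCharacter_irr φ)
  obtain ⟨f, hf⟩ := classInner_isCharacter (isCharacter_comp (isCharacter_irr ψ) (Subgroup.inclusion hLT))
    (isCharacter_irr φ)
  obtain ⟨e, he⟩ := classInner_isCharacter (isCharacter_comp (isCharacter_irr χ) L.subtype)
    (isCharacter_irr φ)
  have he' : classInner (fun n : L => (χ : G → ℂ) n) (φ : L → ℂ) = (e : ℂ) := he
  have hef : e = s + f := by
    have h2 : (fun x : L => ((fun t : T => (χ : G → ℂ) t) - (ψ : T → ℂ)) (Subgroup.inclusion hLT x)) =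
        (fun n : L => (χ : G → ℂ) n) - (fun n : L => (ψ : T → ℂ) (Subgroup.inclusion hLT n)) := rfl
    rw [h2, classInner_sub_left, he', hf] at hs
    have : (e : ℂ) = (s : ℂ) + (f : ℂ) := by linear_combination hs
    exact_mod_cast this
  have hf0 : f ≠ 0 := fun e0 => h (by rw [hf, e0, Nat.cast_zero])
  have he0 : classInner (fun n : L => (χ : G → ℂ) n) (φ : L → ℂ) ≠ 0 := by
    rw [he', Nat.cast_ne_zero]
    omega
  -- the degree of `ψ`
  have := Fintype.ofFinite (L.subgroupOf T)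
  let eL : (L.subgroupOf T) ≃* L := Subgroup.subgroupOfEquivOfLe hLT
  have hφ' : IsIrrCharacter (L.subgroupOf T) (fun x => (φ : L → ℂ) (eL x)) :=
    isIrrCharacter_comp_surjective φ.2 eL.toMonoidHom eL.surjective
  have hf' : classInner (fun x : L.subgroupOf T => (ψ : T → ℂ) x) (fun x => (φ : L → ℂ) (eL x)) =
      classInner (fun n : L => (ψ : T → ℂ) (Subgroup.inclusion hLT n)) (φ : L → ℂ) := by
    rw [← classInner_equiv eL (fun n : L => (ψ : T → ℂ) (Subgroup.inclusion hLT n)) (φ : L → ℂ)]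
    rfl
  have htop : inertia (L.subgroupOf T) (fun x => (φ : L → ℂ) (eL x)) = ⊤ := by
    rw [eq_top_iff]
    intro t _
    funext x
    exact congrFun ((mem_inertia L (φ : L → ℂ) (t : G)).mp (hT.le t.2)) (eL x)
  have hψ1 : charDegree (ψ : T → ℂ) = f * charDegree (φ : L → ℂ) := by
    have h' := clifford_degree (L.subgroupOf T) ψ.2 hφ' (by rw [hf']; exact h)
    rw [htop, Subgroup.index_top, Nat.cast_one, mul_one, hf', hf, map_one,
      Block.ItoMichler.one_eq_cast, Block.ItoMichler.one_eq_cast] at h'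
    exact_mod_cast h'
  have hχ1 : charDegree (χ : G → ℂ) = e * T.index * charDegree (φ : L → ℂ) := by
    have h' := clifford_degree L χ.2 φ.2 he0
    rw [← hT, he', Block.ItoMichler.one_eq_cast, Block.ItoMichler.one_eq_cast] at h'
    exact_mod_cast h'
  have hinner : classInner (indFun T (ψ : T → ℂ)) (χ : G → ℂ) ≠ 0 := by
    rw [classInner_indFun T _ _ (isClassFunction_irr χ), ← classInner_conj]
    exact fun h' => hχ (by simpa using h')
  have hind : indFun T (ψ : T → ℂ) 1 = ((T.index * charDegree (ψ : T → ℂ) : ℕ) : ℂ) := by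
    rw [indFun_one, Block.ItoMichler.one_eq_cast, Nat.cast_mul]
  obtain ⟨hle, heq⟩ := degree_le_of_constituent (isCharacter_indFun T (isCharacter_irr ψ)) χ hinner
    hind (Block.ItoMichler.one_eq_cast χ)
  have hpos : 0 < T.index * charDegree (φ : L → ℂ) :=
    Nat.mul_pos (Nat.pos_of_ne_zero Subgroup.index_ne_zero_of_finite) (degree_pos φ)
  have hfe : e ≤ f := by
    refine Nat.le_of_mul_le_mul_right ?_ hpos
    calc e * (T.index * charDegree (φ : L → ℂ)) = charDegree (χ : G → ℂ) := by rw [hχ1]; ring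
      _ ≤ T.index * charDegree (ψ : T → ℂ) := hle
      _ = f * (T.index * charDegree (φ : L → ℂ)) := by rw [hψ1]; ring
  have hef' : e = f := by omega
  have hdeg : charDegree (χ : G → ℂ) = T.index * charDegree (ψ : T → ℂ) := by
    rw [hχ1, hψ1, hef']; ring
  exact ⟨χ, (heq hdeg.symm).symm, hdeg, by rw [he', hf, hef']⟩

/-- Induction from the inertia group is injective over `φ`. -/
theorem eq_of_ind_eq {T : Subgroup G} (hT : T = inertia L (φ : L → ℂ)) (hLT : L ≤ T) [Fintype T]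
    (ψ₁ ψ₂ : IrrCharacter T)
    (h₁ : classInner (fun n : L => (ψ₁ : T → ℂ) (Subgroup.inclusion hLT n)) (φ : L → ℂ) ≠ 0)
    (h₂ : classInner (fun n : L => (ψ₂ : T → ℂ) (Subgroup.inclusion hLT n)) (φ : L → ℂ) ≠ 0)
    (h : indFun T (ψ₁ : T → ℂ) = indFun T (ψ₂ : T → ℂ)) : ψ₁ = ψ₂ := by
  classical
  by_contra hne
  obtain ⟨χ, hχ, -, he⟩ := exists_ind_over L φ hT hLT ψ₁ h₁
  have hχT : IsCharacter T (fun t : T => (χ : G → ℂ) t) :=
    isCharacter_comp (isCharacter_irr χ) T.subtype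
  have hc : ∀ ψ : IrrCharacter T, (χ : G → ℂ) = indFun T (ψ : T → ℂ) →
      classInner (fun t : T => (χ : G → ℂ) t) (ψ : T → ℂ) ≠ 0 := by
    intro ψ hψ h0
    have h1 := classInner_indFun_right T (ψ : T → ℂ) (χ : G → ℂ) (isClassFunction_irr χ)
    rw [← hψ, classInner_irr_self, h0] at h1
    exact one_ne_zero h1
  have hs1 := isCharacter_sub_constituent hχT ψ₁ (hc ψ₁ hχ)
  have hi : classInner ((fun t : T => (χ : G → ℂ) t) - (ψ₁ : T → ℂ)) (ψ₂ : T → ℂ) ≠ 0 := by
    rw [classInner_sub_left, classInner_irr_ne hne, sub_zero]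
    exact hc ψ₂ (hχ.trans h)
  obtain ⟨s, hs⟩ := classInner_isCharacter
    (isCharacter_comp (isCharacter_sub_constituent hs1 ψ₂ hi) (Subgroup.inclusion hLT))
    (isCharacter_irr φ)
  obtain ⟨f, hf⟩ := classInner_isCharacter (isCharacter_comp (isCharacter_irr ψ₂) (Subgroup.inclusion hLT))
    (isCharacter_irr φ)
  have h2 : (fun x : L => ((fun t : T => (χ : G → ℂ) t) - (ψ₁ : T → ℂ) - (ψ₂ : T → ℂ))
      (Subgroup.inclusion hLT x)) = (fun n : L => (χ : G → ℂ) n) -
        (fun n : L => (ψ₁ : T → ℂ) (Subgroup.inclusion hLT n)) -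
        (fun n : L => (ψ₂ : T → ℂ) (Subgroup.inclusion hLT n)) := rfl
  rw [h2, classInner_sub_left, classInner_sub_left, he, sub_self, hf] at hs
  have : ((s + f : ℕ) : ℂ) = 0 := by push_cast; linear_combination -hs
  have hsf : s + f = 0 := by exact_mod_cast this
  exact h₂ (by rw [hf, show f = 0 by omega, Nat.cast_zero])

/-- The inertia group of an irreducible character of a normal subgroup contains it. -/
theorem le_inertia_irr : L ≤ inertia L (φ : L → ℂ) := le_inertia L (isClassFunction_irr φ)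

/-- A character extended to its inertia group induces irreducibly. -/
theorem ind_of_ext {T : Subgroup G} (hT : T = inertia L (φ : L → ℂ)) (hLT : L ≤ T) [Fintype T]
    (ψ : IrrCharacter T) (hψ : ∀ n : L, (ψ : T → ℂ) (Subgroup.inclusion hLT n) = (φ : L → ℂ) n) :
    charDegree (ψ : T → ℂ) = charDegree (φ : L → ℂ) ∧
    ∃ χ : IrrCharacter G, (χ : G → ℂ) = indFun T (ψ : T → ℂ) ∧
      charDegree (χ : G → ℂ) = T.index * charDegree (φ : L → ℂ) ∧
      classInner (fun n : L => (χ : G → ℂ) n) (φ : L → ℂ) = 1 := by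
  have hd : charDegree (ψ : T → ℂ) = charDegree (φ : L → ℂ) := by
    have h1 := hψ 1
    rw [map_one, Block.ItoMichler.one_eq_cast, Block.ItoMichler.one_eq_cast] at h1
    exact_mod_cast h1
  have hin : classInner (fun n : L => (ψ : T → ℂ) (Subgroup.inclusion hLT n)) (φ : L → ℂ) = 1 := by
    rw [show (fun n : L => (ψ : T → ℂ) (Subgroup.inclusion hLT n)) = (φ : L → ℂ) from funext hψ,
      classInner_irr_self]
  obtain ⟨χ, h1, h2, h3⟩ := exists_ind_over L φ hT hLT ψ (by rw [hin]; exact one_ne_zero)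
  exact ⟨hd, χ, h1, by rw [h2, hd], h3.trans hin⟩

/-- The representation of `L` inside `T` and its invariance. -/
theorem exists_rep_data {T : Subgroup G} (hT : T = inertia L (φ : L → ℂ)) (hLT : L ≤ T) :
    ∃ (d : ℕ) (ρ : Representation ℂ (L.subgroupOf T) (Fin d → ℂ)), ρ.IsIrreducible ∧
      IsInvariant (L.subgroupOf T) ρ ∧
      ∀ x : L.subgroupOf T, ρ.character x = (φ : L → ℂ) (Subgroup.subgroupOfEquivOfLe hLT x) := by
  obtain ⟨d, ρ, hρ, hρc⟩ := isIrrCharacter_comp_surjective φ.2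
    (Subgroup.subgroupOfEquivOfLe hLT).toMonoidHom (Subgroup.subgroupOfEquivOfLe hLT).surjective
  refine ⟨d, ρ, hρ, fun g n => ?_, fun x => congrFun hρc x⟩
  rw [hρc]
  exact congrFun ((mem_inertia L (φ : L → ℂ) (g : G)).mp (hT.le g.2))
    (Subgroup.subgroupOfEquivOfLe hLT n)

theorem ext_of_char {T : Subgroup G} (hLT : L ≤ T) [Fintype T] {d : ℕ}
    (ρ : Representation ℂ (L.subgroupOf T) (Fin d → ℂ))
    (hρc : ∀ x : L.subgroupOf T, ρ.character x = (φ : L → ℂ) (Subgroup.subgroupOfEquivOfLe hLT x))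
    {χ : T → ℂ} (hχ : IsIrrCharacter T χ) (h : ∀ n : L.subgroupOf T, χ n = ρ.character n) :
    ∃ ψ : IrrCharacter T, ∀ n : L, (ψ : T → ℂ) (Subgroup.inclusion hLT n) = (φ : L → ℂ) n := by
  refine ⟨⟨χ, hχ⟩, fun n => ?_⟩
  exact (h ⟨Subgroup.inclusion hLT n, Subgroup.mem_subgroupOf.2 n.2⟩).trans (hρc _)

/-- Extension when the index is prime to the order. -/
theorem exists_ext_of_coprime (hc : (Nat.card L).Coprime L.index) {T : Subgroup G}
    (hT : T = inertia L (φ : L → ℂ)) (hLT : L ≤ T) [Fintype T] :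
    ∃ ψ : IrrCharacter T, ∀ n : L, (ψ : T → ℂ) (Subgroup.inclusion hLT n) = (φ : L → ℂ) n := by
  classical
  obtain ⟨d, ρ, hρ, hinv, hρc⟩ := exists_rep_data L φ hT hLT
  have hd : d ∣ Nat.card L := by
    refine degree_dvd_card φ ?_
    have h1 := hρc 1
    rw [Representation.char_one, Module.finrank_fin_fun, map_one] at h1
    exact h1.symm
  have hcard : Nat.card (L.subgroupOf T) = Nat.card L :=
    Nat.card_congr (Subgroup.subgroupOfEquivOfLe hLT).toEquiv
  have htau : ∀ p : ℕ, p.Prime → ∃ m ∈ tauSet (L.subgroupOf T) ρ, ¬ (p : ℤ) ∣ m := by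
    intro p hp
    by_cases hpi : p ∣ (L.subgroupOf T).index
    swap
    · exact ⟨_, index_self_mem_tauSet (L.subgroupOf T) ρ hinv, fun h => hpi (Int.natCast_dvd_natCast.1 h)⟩
    have hpL : ¬ p ∣ Nat.card L := fun h => hp.ne_one (Nat.eq_one_of_dvd_coprimes hc h
      (hpi.trans (Subgroup.relIndex_dvd_index_of_normal L T)))
    refine ⟨_, det_order_mem_tauSet (L.subgroupOf T) ρ (o := Nat.card L) (fun n => ?_), fun h => ?_⟩
    · rw [← map_pow, ← map_pow, ← hcard, pow_card_eq_one', map_one, map_one]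
    · rcases hp.dvd_mul.1 (Int.natCast_dvd_natCast.1 h) with h' | h'
      · exact hpL (h'.trans hd)
      · exact hpL h'
  obtain ⟨χ, hχ, hχn⟩ := exists_char_of_rep (L.subgroupOf T) ρ
    (extends_of_tauSet (L.subgroupOf T) ρ hinv htau)
  exact ext_of_char L φ hLT ρ hρc hχ hχn

/-- Extension when the quotient is cyclic. -/
theorem exists_ext_of_cyclic (hc : IsCyclic (G ⧸ L)) {T : Subgroup G}
    (hT : T = inertia L (φ : L → ℂ)) (hLT : L ≤ T) [Fintype T] :
    ∃ ψ : IrrCharacter T, ∀ n : L, (ψ : T → ℂ) (Subgroup.inclusion hLT n) = (φ : L → ℂ) n := by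
  classical
  obtain ⟨d, ρ, hρ, hinv, hρc⟩ := exists_rep_data L φ hT hLT
  let f : T ⧸ L.subgroupOf T →* G ⧸ L :=
    QuotientGroup.map _ L T.subtype fun x hx => Subgroup.mem_subgroupOf.1 hx
  have hf : Function.Injective f := by
    rw [injective_iff_map_eq_one]
    intro x hx
    obtain ⟨t, rfl⟩ := QuotientGroup.mk_surjective x
    replace hx : ((t : G) : G ⧸ L) = 1 := hx
    rw [QuotientGroup.eq_one_iff] at hx
    exact (QuotientGroup.eq_one_iff t).2 (Subgroup.mem_subgroupOf.2 hx)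
  obtain ⟨χ, hχ, hχn⟩ := exists_char_of_rep (L.subgroupOf T) ρ
    (extends_of_cyclic (L.subgroupOf T) ρ hinv (isCyclic_of_injective f hf))
  exact ext_of_char L φ hLT ρ hρc hχ hχn

end Above

/-- A nonabelian quotient of prime power order makes all nonlinear degrees equal. -/
theorem all_eq_of_pQuotient [Finite G] (h : NoDvd G) (K : Subgroup G) [K.Normal] {p : ℕ}
    (hp : p.Prime) (hP : IsPGroup p (G ⧸ K)) (hK : ¬ commutator G ≤ K) (χ χ' : IrrCharacter G)
    (hχ : charDegree (χ : G → ℂ) ≠ 1) (hχ' : charDegree (χ' : G → ℂ) ≠ 1) :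
    charDegree (χ : G → ℂ) = charDegree (χ' : G → ℂ) := by
  classical
  have := Fintype.ofFinite G
  have := Fintype.ofFinite K
  have := Fintype.ofFinite (G ⧸ K)
  have := Fact.mk hp
  obtain ⟨k, hk⟩ := IsPGroup.iff_card.1 hP
  obtain ⟨β, hβ⟩ : ∃ β : IrrCharacter (G ⧸ K), charDegree (β : G ⧸ K → ℂ) ≠ 1 := by
    by_contra hall
    push Not at hall
    refine hK ?_
    rw [commutator_def, Subgroup.commutator_le]
    intro a _ b _
    rw [← QuotientGroup.eq_one_iff,
      show ((⁅a, b⁆ : G) : G ⧸ K) = ⁅(a : G ⧸ K), (b : G ⧸ K)⁆ from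
        map_commutatorElement (QuotientGroup.mk' K) a b,
      commutatorElement_eq_one_iff_mul_comm]
    exact comm_of_degree_one (fun θ => by rw [Block.ItoMichler.one_eq_cast, hall θ, Nat.cast_one]) _ _
  obtain ⟨a, -, ha⟩ := (Nat.dvd_prime_pow hp).1 (show charDegree (β : G ⧸ K → ℂ) ∣ p ^ k by
    rw [← hk]
    exact degree_dvd_card β (Block.ItoMichler.one_eq_cast β))
  have hβ1 : 1 < p ^ a := by
    have := degree_pos β
    omega
  -- the character of `G`
  have hβG : p ^ a ∈ charDegrees G := DegComp.mem_charDegrees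
    (isIrrCharacter_comp_surjective β.2 (QuotientGroup.mk' K) (QuotientGroup.mk'_surjective K))
    (by rw [map_one, Block.ItoMichler.one_eq_cast, ha])
  have hdiv : ∀ ξ : IrrCharacter G, charDegree (ξ : G → ℂ) ≠ 1 → p ∣ charDegree (ξ : G → ℂ) := by
    intro ξ hξ
    by_contra hpξ
    have hres := DegComp.isIrr_res_of_index_pow K hp
      (show K.index = p ^ k by rw [Subgroup.index_eq_card, hk]) ξ hpξ
    have h1 : charDegree (ξ : G → ℂ) * p ^ a ∈ charDegrees G :=
      DegComp.mem_charDegrees (DegComp.isIrr_mul_quot K ξ hres β) (by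
        rw [QuotientGroup.mk_one, Block.ItoMichler.one_eq_cast, Block.ItoMichler.one_eq_cast, ha,
          Nat.cast_mul])
    have := h.eq_one_of_mul ⟨ξ, rfl⟩ h1 (by have := degree_pos ξ; omega)
    omega
  obtain ⟨P₀, hP₀n, hP₀c, j, hj⟩ := Cfsg.Agent.S4456.result p hp hdiv
  have := hP₀n
  have := Fintype.ofFinite P₀
  have hP₀K : P₀ ≤ K := fun x hx => by
    obtain ⟨i, hi⟩ := IsPGroup.iff_orderOf.1 hP (x : G ⧸ K)
    refine (QuotientGroup.eq_one_iff x).1 (orderOf_eq_one_iff.1 (Nat.eq_one_of_dvd_coprimes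
      (hP₀c.pow_right i) ?_ (hi ▸ dvd_rfl)))
    exact (orderOf_map_dvd (QuotientGroup.mk' K) x).trans
      (by rw [← Subgroup.orderOf_mk x hx]; exact orderOf_dvd_natCard _)
  suffices key : ∀ ξ : IrrCharacter G, charDegree (ξ : G → ℂ) ≠ 1 → charDegree (ξ : G → ℂ) = p ^ a by
    rw [key χ hχ, key χ' hχ']
  intro ξ hξ
  have hd1 : 1 < charDegree (ξ : G → ℂ) := by have := degree_pos ξ; omega
  obtain ⟨φ, hφ⟩ := exists_irr_inner_ne_zero (G := P₀)
    (isCharacter_comp (isCharacter_irr ξ) P₀.subtype) fun h0 => irr_one_ne_zero ξ (congrFun h0 1)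
  set T := inertia P₀ (φ : P₀ → ℂ) with hT
  have hLT : P₀ ≤ T := le_inertia_irr P₀ φ
  have := Fintype.ofFinite T
  have := Fintype.ofFinite (T ⧸ P₀.subgroupOf T)
  have := Fintype.ofFinite (P₀.subgroupOf T)
  obtain ⟨φh, hφh⟩ := exists_ext_of_coprime P₀ φ (by rw [hj]; exact hP₀c.pow_right j) hT hLT
  obtain ⟨hφd, χ₀, -, hχ₀, -⟩ := ind_of_ext P₀ φ hT hLT φh hφh
  obtain ⟨ψf, hψf, hξψ, hψφ⟩ := exists_inertia_correspondent_inner P₀ ξ.2 φ.2 hφ
  let ψ : IrrCharacter T := ⟨ψf, hψf⟩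
  have hξd : charDegree (ξ : G → ℂ) = T.index * charDegree (ψ : T → ℂ) := by
    rw [degree_eq_iff, hξψ, indFun_one, Nat.cast_mul,
      ← Block.ItoMichler.one_eq_cast (G := T) ψ]
  have hψi : classInner (fun n : P₀ => (ψ : T → ℂ) (Subgroup.inclusion hLT n)) (φ : P₀ → ℂ) ≠ 0 := by
    rw [hψφ hLT]
    exact hφ
  obtain ⟨i, -, hTi⟩ := (Nat.dvd_prime_pow hp).1 (hj ▸ Subgroup.index_dvd_of_le hLT)
  by_cases hc1 : T.index * charDegree (φ : P₀ → ℂ) = 1
  · -- the degree is a power of `p`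
    have hT1 := Nat.eq_one_of_mul_eq_one_right hc1
    have hφ1 := Nat.eq_one_of_mul_eq_one_left hc1
    obtain ⟨-, hr⟩ := ratio_dvd_index P₀ ξ.2 φ.2 hφ (Block.ItoMichler.one_eq_cast ξ)
      (Block.ItoMichler.one_eq_cast φ)
    rw [hφ1, Nat.div_one, hj] at hr
    obtain ⟨b, -, hb⟩ := (Nat.dvd_prime_pow hp).1 hr
    rw [hb]
    rcases le_total a b with hab | hab
    · exact (h.eq_of_dvd hβG (hb ▸ ⟨ξ, rfl⟩) hβ1 (pow_dvd_pow p hab)).symm
    · exact h.eq_of_dvd (hb ▸ ⟨ξ, rfl⟩) hβG (hb ▸ hd1) (pow_dvd_pow p hab)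
  have hc2 : 1 < T.index * charDegree (φ : P₀ → ℂ) := by
    have := Nat.mul_pos (Nat.pos_of_ne_zero (Subgroup.index_ne_zero_of_finite (H := T))) (degree_pos φ)
    omega
  -- the quotient of the inertia group is abelian
  have hab : ∀ x y : T, x * y * x⁻¹ * y⁻¹ ∈ P₀.subgroupOf T := by
    by_contra hna
    obtain ⟨β', hβ'⟩ : ∃ β' : IrrCharacter (T ⧸ P₀.subgroupOf T),
        charDegree (β' : T ⧸ P₀.subgroupOf T → ℂ) ≠ 1 := by
      by_contra hall
      push Not at hall
      refine hna fun x y => (QuotientGroup.eq_one_iff _).1 ?_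
      have hcm := comm_of_degree_one (G := T ⧸ P₀.subgroupOf T)
        (fun θ => by rw [Block.ItoMichler.one_eq_cast, hall θ, Nat.cast_one]) (x : T ⧸ _) (y : T ⧸ _)
      rw [QuotientGroup.mk_mul, QuotientGroup.mk_mul, QuotientGroup.mk_mul, hcm, QuotientGroup.mk_inv,
        QuotientGroup.mk_inv, mul_inv_cancel_right, mul_inv_cancel]
    have hres : IsIrrCharacter (P₀.subgroupOf T) (fun x => (φh : T → ℂ) x) := by
      have he : (fun x : P₀.subgroupOf T => (φh : T → ℂ) x) =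
          fun x => (φ : P₀ → ℂ) (Subgroup.subgroupOfEquivOfLe hLT x) :=
        funext fun x => hφh (Subgroup.subgroupOfEquivOfLe hLT x)
      rw [he]
      exact isIrrCharacter_comp_surjective φ.2 (Subgroup.subgroupOfEquivOfLe hLT).toMonoidHom
        (Subgroup.subgroupOfEquivOfLe hLT).surjective
    let ψ' : IrrCharacter T := ⟨_, DegComp.isIrr_mul_quot (P₀.subgroupOf T) φh hres β'⟩
    have hd' : charDegree (ψ' : T → ℂ) =
        charDegree (φ : P₀ → ℂ) * charDegree (β' : T ⧸ P₀.subgroupOf T → ℂ) := by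
      rw [degree_eq_iff, Nat.cast_mul, ← hφd, ← Block.ItoMichler.one_eq_cast,
        ← Block.ItoMichler.one_eq_cast]
      show (φh : T → ℂ) 1 * (β' : (T ⧸ P₀.subgroupOf T) → ℂ) ((1 : T) : T ⧸ P₀.subgroupOf T) = _
      rw [QuotientGroup.mk_one]
    have hi' : classInner (fun n : P₀ => (ψ' : T → ℂ) (Subgroup.inclusion hLT n)) (φ : P₀ → ℂ) ≠ 0 := by
      have he : (fun n : P₀ => (ψ' : T → ℂ) (Subgroup.inclusion hLT n)) =
          ((β' : T ⧸ P₀.subgroupOf T → ℂ) 1) • (φ : P₀ → ℂ) := by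
        funext n
        show (φh : T → ℂ) _ * (β' : T ⧸ P₀.subgroupOf T → ℂ) _ = _
        rw [hφh, (QuotientGroup.eq_one_iff (Subgroup.inclusion hLT n)).2
          (Subgroup.mem_subgroupOf.2 n.2), Pi.smul_apply, smul_eq_mul, mul_comm]
      rw [he, classInner_smul_left, classInner_irr_self, mul_one]
      exact irr_one_ne_zero β'
    obtain ⟨χ₁, -, hχ₁, -⟩ := exists_ind_over P₀ φ hT hLT ψ' hi'
    rw [hd', ← mul_assoc] at hχ₁
    exact hβ' (h.eq_one_of_mul (hχ₀ ▸ ⟨χ₀, rfl⟩) (hχ₁ ▸ ⟨χ₁, rfl⟩) hc2)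
  -- so the degree is `[G : T] φ(1)`
  have hψd : charDegree (ψ : T → ℂ) = charDegree (φ : P₀ → ℂ) := by
    let φ' : IrrCharacter (P₀.subgroupOf T) := ⟨fun x => (φ : P₀ → ℂ) (Subgroup.subgroupOfEquivOfLe hLT x),
      isIrrCharacter_comp_surjective φ.2 (Subgroup.subgroupOfEquivOfLe hLT).toMonoidHom
        (Subgroup.subgroupOfEquivOfLe hLT).surjective⟩
    have hin : ∀ ω : IrrCharacter T,
        classInner (fun x : P₀.subgroupOf T => (ω : T → ℂ) x) (φ' : P₀.subgroupOf T → ℂ) =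
          classInner (fun n : P₀ => (ω : T → ℂ) (Subgroup.inclusion hLT n)) (φ : P₀ → ℂ) := by
      intro ω
      rw [← classInner_equiv (Subgroup.subgroupOfEquivOfLe hLT)
        (fun n : P₀ => (ω : T → ℂ) (Subgroup.inclusion hLT n)) (φ : P₀ → ℂ)]
      rfl
    obtain ⟨ν, -, hν⟩ := exists_linMul_eq (P₀.subgroupOf T) hab (χ := φh) (χ' := ψ) (θ := φ')
      (by rw [hin, show (fun n : P₀ => (φh : T → ℂ) (Subgroup.inclusion hLT n)) = (φ : P₀ → ℂ) from
        funext hφh, classInner_irr_self]; exact one_ne_zero) (by rw [hin]; exact hψi)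
    rw [← hν, ← hφd, degree_eq_iff, ← Block.ItoMichler.one_eq_cast]
    show (ν 1 : ℂ) * (φh : T → ℂ) 1 = _
    rw [map_one, Units.val_one, one_mul]
  rw [hξd, hψd] at hξ ⊢
  -- an abelian subgroup of small index
  have hle : p ^ a ≤ T.index := by
    set π := QuotientGroup.mk' P₀
    have hidx : (T.map π).index = T.index := Subgroup.index_map_eq _ (QuotientGroup.mk'_surjective P₀)
      (by rw [QuotientGroup.ker_mk']; exact hLT)
    rw [← hidx]
    refine degree_le_index (isIrrCharacter_comp_surjective β.2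
      (QuotientGroup.map P₀ K (MonoidHom.id G) hP₀K) fun x => ?_) (T.map π) ?_
      (by rw [map_one, Block.ItoMichler.one_eq_cast, ha])
    · obtain ⟨g, rfl⟩ := QuotientGroup.mk_surjective x
      exact ⟨(g : G ⧸ P₀), rfl⟩
    · rintro _ ⟨x, hx, rfl⟩ _ ⟨y, hy, rfl⟩
      have h1 := hab ⟨x, hx⟩ ⟨y, hy⟩
      rw [← commutatorElement_eq_one_iff_mul_comm, ← map_commutatorElement,
        QuotientGroup.mk'_apply, QuotientGroup.eq_one_iff, commutatorElement_def]
      exact Subgroup.mem_subgroupOf.1 h1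
  have hai : a ≤ i := by
    rw [hTi] at hle
    exact (Nat.pow_le_pow_iff_right hp.one_lt).1 hle
  refine (h.eq_of_dvd hβG (hχ₀ ▸ ⟨χ₀, rfl⟩) hβ1 ?_).symm
  rw [hTi]
  exact (pow_dvd_pow p hai).mul_right _

end CfsgLib.Char.NoDiv
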