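import Cfsg.Agent.Lib.Char.NoDiv.Orbits

/-!
# The kernel modulo its normal complement is abelian

A nonabelian `q`-quotient would give a layer of commutators with fewer characters than the layer
of the moved characters, although both are counted by the same repunit.
-/

set_option autoImplicit false
set_option linter.unusedSectionVars false

namespace CfsgLib.Char.NoDiv

open Cfsg CfsgLib CfsgLib.Char
open scoped ComplexConjugate commutatorElement

universe u

variable {F : Type u} [Group F]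

theorem classInner_mul_left' {G : Type*} [Group G] [Fintype G] (c : ℂ) (φ ψ : G → ℂ) :
    classInner (fun g => c * φ g) ψ = c * classInner φ ψ := classInner_smul_left c φ ψ

/-- Characters fixed by a map form a group of prime power order. -/
theorem natCard_fixed_pow [Finite F] {q : ℕ} (hq : q.Prime) (M : Subgroup F) (r : M →* M)
    (X : Subgroup (M →* ℂˣ)) (hX : ∀ x ∈ X, ∃ k : ℕ, x ^ q ^ k = 1) :
    (∃ a, Nat.card {x : X // (x : M →* ℂˣ).comp r = x} = q ^ a) ∧ ∃ a, Nat.card X = q ^ a := by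
  have hP : IsPGroup q X := fun x => by
    obtain ⟨k, hk⟩ := hX x x.2
    exact ⟨k, Subtype.ext hk⟩
  have := Fact.mk hq
  refine ⟨?_, IsPGroup.iff_card.1 hP⟩
  let S : Subgroup X :=
    { carrier := {x | (x : M →* ℂˣ).comp r = x}
      one_mem' := rfl
      mul_mem' := fun {a b} ha hb => by
        rw [Set.mem_setOf_eq] at ha hb ⊢
        rw [Subgroup.coe_mul, MonoidHom.mul_comp, ha, hb]
      inv_mem' := fun {a} ha => by
        rw [Set.mem_setOf_eq] at ha ⊢
        refine MonoidHom.ext fun m => ?_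
        have h := DFunLike.congr_fun ha m
        rw [MonoidHom.comp_apply] at h
        rw [MonoidHom.comp_apply, Subgroup.coe_inv, MonoidHom.inv_apply, MonoidHom.inv_apply, h] }
  exact (IsPGroup.iff_card (G := S)).1 (hP.to_subgroup S)

/-- The norm commutes with automorphisms preserving the subgroup. -/
theorem normMap_comp_restr (L : Subgroup F) [L.Normal] [Fintype (F ⧸ L)] (β : MulAut F)
    (hβ : ∀ x, β x ∈ L ↔ x ∈ L) (f : L →* ℂˣ) :
    normMap L (f.comp (restr β L hβ).toMonoidHom) = (normMap L f).comp (restr β L hβ).toMonoidHom := by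
  refine MonoidHom.ext fun x => ?_
  rw [MonoidHom.comp_apply, normMap_apply, normMap_apply, MonoidHom.finset_prod_apply,
    MonoidHom.finset_prod_apply]
  refine Fintype.prod_bijective (quotAut L ⟨β, hβ⟩) (MulEquiv.bijective _) _ _ fun γ => ?_
  have h1 : quotAut L ⟨β, hβ⟩ γ = ((β γ.out : F) : F ⧸ L) := by
    conv_lhs => rw [← QuotientGroup.out_eq' γ]
    rfl
  rw [h1, cj_out_mk, cj_apply, cj_apply, MonoidHom.comp_apply]
  exact congrArg f (Subtype.ext (by simp [restr_apply]))

namespace Ctx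

variable [Fintype F] {α : MulAut F} {E R L : Subgroup F} {q : ℕ}
variable [L.Normal] [Fintype L] [Fintype (F ⧸ L)]

/-- The equation satisfied by the counted groups of characters. -/
theorem repunit_eq (c : Ctx α E R L q) {f x : ℕ}
    (h : L.index * (f - 1) = Nat.card {γ : F ⧸ L // quotAut L c.autL γ = γ} * (x - 1))
    (hf : 0 < f) (hx : 0 < x) {e : ℕ}
    (hidx : L.index = Nat.card {γ : F ⧸ L // quotAut L c.autL γ = γ} * e) :
    x + e = e * f + 1 := by
  have : Nonempty {γ : F ⧸ L // quotAut L c.autL γ = γ} := ⟨⟨1, map_one _⟩⟩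
  rw [hidx, mul_assoc] at h
  have h' := Nat.eq_of_mul_eq_mul_left Nat.card_pos h
  rw [Nat.mul_sub, mul_one] at h'
  have : e ≤ e * f := Nat.le_mul_of_pos_right _ hf
  omega

/-- The quotient by the normal complement is abelian. -/
theorem commutator_le_complement (c : Ctx α E R L q) {P : Subgroup L} [P.Normal]
    (hPi : ∃ k, P.index = q ^ k) (hP : ∀ x : L, x ∈ P ↔ (orderOf x).Coprime q) :
    commutator L ≤ P := by
  classical
  by_contra hna
  have hq := c.fq.prime
  have := Fact.mk hq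
  obtain ⟨k, hk⟩ := hPi
  -- the layer
  set M0 : Subgroup L := commutator L ⊔ P with hM0
  set M : Subgroup F := M0.map L.subtype with hMdef
  have hML : M ≤ L := Subgroup.map_subtype_le M0
  have htop : (⊤ : Subgroup L).map L.subtype = L := by
    rw [← MonoidHom.range_eq_map, Subgroup.range_subtype]
  have hMeq : M = ⁅L, L⁆ ⊔ P.map L.subtype := by
    rw [hMdef, hM0, Subgroup.map_sup, commutator_def, Subgroup.map_commutator, htop]
  have hPb : ∀ (β : MulAut F), (∀ x, β x ∈ L ↔ x ∈ L) → ∀ x ∈ P.map L.subtype,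
      β x ∈ P.map L.subtype := by
    rintro β hβ _ ⟨x, hx, rfl⟩
    refine ⟨restr β L hβ x, (hP _).2 ?_, rfl⟩
    rw [MulEquiv.orderOf_eq]
    exact (hP x).1 hx
  have hMb : ∀ (β : MulAut F), (∀ x, β x ∈ L ↔ x ∈ L) → ∀ x ∈ M, β x ∈ M := by
    intro β hβ x hx
    have h1 : L.map (β : F ≃* F).toMonoidHom ≤ L := by
      rintro _ ⟨y, hy, rfl⟩
      exact (hβ y).2 hy
    have h2 : (P.map L.subtype).map (β : F ≃* F).toMonoidHom ≤ P.map L.subtype := by
      rintro _ ⟨y, hy, rfl⟩
      exact hPb β hβ y hy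
    have h3 : M.map (β : F ≃* F).toMonoidHom ≤ M := by
      rw [hMeq, Subgroup.map_sup, Subgroup.map_commutator]
      exact sup_le_sup (Subgroup.commutator_mono h1 h1) h2
    exact h3 ⟨x, hx, rfl⟩
  haveI hMn : M.Normal := ⟨fun x hx g => by
    have := hMb (MulAut.conj g) (fun y => ?_) x hx
    · simpa using this
    · simp only [MulAut.conj_apply]
      refine ⟨fun h => ?_, fun h => c.fq.normalL.conj_mem y h g⟩
      simpa [mul_assoc] using c.fq.normalL.conj_mem _ h g⁻¹⟩
  have := Fintype.ofFinite M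
  have hLM : ∀ a b : L, ⁅(a : F), (b : F)⁆ ∈ M := fun a b => by
    rw [hMeq]
    exact Subgroup.mem_sup_left (Subgroup.commutator_mem_commutator a.2 b.2)
  have hPM : ∀ x : L, (orderOf x).Coprime q → (x : F) ∈ M := fun x hx =>
    ⟨x, Subgroup.mem_sup_right ((hP x).2 hx), rfl⟩
  -- the characters of the layer
  let Ω : Subgroup (M →* ℂˣ) :=
    { carrier := {lam | lam ∈ qOne M q ∧ (∀ m : M, (orderOf m).Coprime q → lam m = 1) ∧
        ∀ l ∈ L, cj M l lam = lam}
      one_mem' := ⟨one_mem _, fun _ _ => rfl, fun _ _ => map_one _⟩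
      mul_mem' := fun {a b} ha hb => ⟨mul_mem ha.1 hb.1, fun m hm => by
        rw [MonoidHom.mul_apply, ha.2.1 m hm, hb.2.1 m hm, one_mul],
        fun l hl => by rw [map_mul, ha.2.2 l hl, hb.2.2 l hl]⟩
      inv_mem' := fun {a} ha => ⟨inv_mem ha.1, fun m hm => by
        rw [MonoidHom.inv_apply, ha.2.1 m hm, inv_one],
        fun l hl => by rw [map_inv, ha.2.2 l hl]⟩ }
  have hΩP : ∀ lam ∈ Ω, ∀ (x : F) (hx : x ∈ M) (hxL : x ∈ L), (orderOf (⟨x, hxL⟩ : L)).Coprime q →
      (lam : M →* ℂˣ) ⟨x, hx⟩ = 1 := fun lam hlam x hx hxL h => hlam.2.1 _ (by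
    rw [Subgroup.orderOf_mk] at h ⊢
    exact h)
  -- it is nontrivial
  have hΩne : ∃ lam ∈ Ω, lam ≠ 1 := by
    set N0 : Subgroup L := ⁅M0, ⊤⁆ ⊔ P with hN0
    set N : Subgroup F := N0.map L.subtype with hNdef
    have hNeq : N = ⁅M, L⁆ ⊔ P.map L.subtype := by
      rw [hNdef, hN0, Subgroup.map_sup, Subgroup.map_commutator, htop]
    have hNM : N ≤ M := Subgroup.map_mono (sup_le ((Subgroup.commutator_mono le_top le_rfl).trans
      (by rw [← commutator_def]; exact le_sup_left)) le_sup_right)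
    have hne : ¬ M ≤ N := by
      intro h
      rw [hMdef, hNdef, Subgroup.map_le_map_iff_of_injective L.subtype_injective] at h
      set π := QuotientGroup.mk' P with hπ
      have hPbot : P.map π = ⊥ := by
        rw [Subgroup.map_eq_bot_iff, hπ, QuotientGroup.ker_mk']
      have hC : M0.map π = commutator (L ⧸ P) := by
        rw [hM0, Subgroup.map_sup, hPbot, sup_bot_eq, commutator_def, Subgroup.map_commutator,
          Subgroup.map_top_of_surjective π (QuotientGroup.mk'_surjective P), commutator_def]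
      have h1 : commutator (L ⧸ P) ≤ ⁅commutator (L ⧸ P), ⊤⁆ := by
        have := Subgroup.map_mono (f := π) h
        rw [hC] at this
        rwa [hN0, Subgroup.map_sup, hPbot, sup_bot_eq, Subgroup.map_commutator, hC,
          Subgroup.map_top_of_surjective π (QuotientGroup.mk'_surjective P)] at this
      have hnil : Group.IsNilpotent (L ⧸ P) := (IsPGroup.of_card (p := q) (n := k) (by
        rw [← Subgroup.index_eq_card, hk])).isNilpotent
      obtain ⟨n, hn⟩ := Subgroup.nilpotent_iff_lowerCentralSeries.1 hnil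
      have hall : ∀ j, commutator (L ⧸ P) ≤ Subgroup.lowerCentralSeries (⊤ : Subgroup (L ⧸ P)) j := by
        intro j
        induction j with
        | zero => exact le_top
        | succ j ih => exact h1.trans ((Subgroup.commutator_mono ih le_rfl).trans le_rfl)
      have hbot : commutator (L ⧸ P) = ⊥ := le_bot_iff.1 ((hall n).trans hn.le)
      refine hna ?_
      have hle : (commutator L).map π ≤ ⊥ := by
        rw [← hbot, ← hC]
        exact Subgroup.map_mono le_sup_left
      rwa [Subgroup.map_le_iff_le_comap, MonoidHom.comap_bot, hπ, QuotientGroup.ker_mk'] at hle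
    haveI hNn : N.Normal := by
      have hPn : (P.map L.subtype).Normal := ⟨fun x hx g => by
        have := hPb (MulAut.conj g) (fun y => ?_) x hx
        · simpa using this
        · simp only [MulAut.conj_apply]
          refine ⟨fun h => ?_, fun h => c.fq.normalL.conj_mem y h g⟩
          simpa [mul_assoc] using c.fq.normalL.conj_mem _ h g⁻¹⟩
      rw [hNeq]
      infer_instance
    have hcN : ∀ (l : F), l ∈ L → ∀ m ∈ M, l * m * l⁻¹ * m⁻¹ ∈ N := fun l hl m hm => by
      rw [hNeq, ← commutatorElement_def]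
      refine Subgroup.mem_sup_left ?_
      rw [← commutatorElement_inv]
      exact inv_mem (Subgroup.commutator_mem_commutator hm hl)
    have hab : ∀ a b : M, a * b * a⁻¹ * b⁻¹ ∈ N.subgroupOf M := fun a b =>
      Subgroup.mem_subgroupOf.2 (hcN a (hML a.2) b b.2)
    obtain ⟨f, hf, hf1⟩ : ∃ f ∈ linearOver (N.subgroupOf M), f ≠ 1 := by
      by_contra hall
      push Not at hall
      have hc := card_linearOver (N.subgroupOf M) hab
      have : Subsingleton (linearOver (N.subgroupOf M)) :=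
        ⟨fun a b => Subtype.ext ((hall a a.2).trans (hall b b.2).symm)⟩
      rw [Nat.card_of_subsingleton (1 : linearOver (N.subgroupOf M))] at hc
      exact hne (Subgroup.relIndex_eq_one.1 hc.symm)
    have hfP : ∀ m : M, (orderOf m).Coprime q → f m = 1 := fun m hm => by
      refine hf m (Subgroup.mem_subgroupOf.2 ?_)
      rw [hNeq]
      refine Subgroup.mem_sup_right ⟨⟨m, hML m.2⟩, (hP _).2 ?_, rfl⟩
      rw [Subgroup.orderOf_mk, Subgroup.orderOf_coe]
      exact hm
    have hfk : f ^ q ^ k = 1 := MonoidHom.ext fun m => by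
      rw [MonoidHom.pow_apply, MonoidHom.one_apply, ← map_pow]
      refine hf _ (Subgroup.mem_subgroupOf.2 ?_)
      rw [hNeq]
      refine Subgroup.mem_sup_right ⟨(⟨m, hML m.2⟩ : L) ^ q ^ k, ?_, by simp⟩
      rw [← hk]
      exact P.pow_index_mem _
    -- reduce to exponent `q`
    obtain ⟨j, hj1, hj2⟩ : ∃ j, f ^ q ^ j ≠ 1 ∧ f ^ q ^ (j + 1) = 1 := by
      have hex : ∃ j, f ^ q ^ j = 1 := ⟨k, hfk⟩
      have h0 : Nat.find hex ≠ 0 := fun h0 => hf1 (by
        have := Nat.find_spec hex
        rw [h0] at this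
        exact MonoidHom.ext fun z => by
          have hz := DFunLike.congr_fun this z
          rwa [MonoidHom.pow_apply, pow_zero, pow_one] at hz)
      obtain ⟨j, hj⟩ := Nat.exists_eq_succ_of_ne_zero h0
      exact ⟨j, Nat.find_min hex (by omega), by have := Nat.find_spec hex; rwa [hj] at this⟩
    refine ⟨f ^ q ^ j, ⟨?_, fun m hm => ?_, fun l hl => MonoidHom.ext fun m => ?_⟩, hj1⟩
    · rw [mem_qOne, hom_pow_mul, ← pow_succ, hj2]
    · rw [MonoidHom.pow_apply, hfP m hm, one_pow]
    · rw [cj_apply, MonoidHom.pow_apply, MonoidHom.pow_apply]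
      refine congrArg (· ^ q ^ j) ?_
      rw [← mul_inv_eq_one, ← map_inv, ← map_mul]
      exact hf _ (Subgroup.mem_subgroupOf.2 (hcN l hl m m.2))
  -- the pairing
  have hh : ∀ lam : Ω, ∃ h : L → (L →* ℂˣ),
      ∀ v y : L, h v y = (lam : M →* ℂˣ) ⟨⁅(v : F), (y : F)⁆, hLM v y⟩ := by
    intro lam
    refine ⟨fun v => MonoidHom.mk' (fun y => (lam : M →* ℂˣ) ⟨⁅(v : F), (y : F)⁆, hLM v y⟩)
      fun y₁ y₂ => ?_, fun v y => rfl⟩
    have hinv := DFunLike.congr_fun (lam.2.2.2 y₁ y₁.2) ⟨⁅(v : F), (y₂ : F)⁆, hLM v y₂⟩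
    rw [cj_apply] at hinv
    rw [← hinv, ← map_mul]
    exact congrArg (lam : M →* ℂˣ) (Subtype.ext (by
      simp only [commutatorElement_def, Subgroup.coe_mul]
      group))
  choose h hh using hh
  have hhv : ∀ lam (v₁ v₂ : L), h lam (v₁ * v₂) = h lam v₁ * h lam v₂ := fun lam v₁ v₂ => by
    refine MonoidHom.ext fun y => ?_
    rw [MonoidHom.mul_apply, hh, hh, hh]
    have hinv := DFunLike.congr_fun (lam.2.2.2 v₁ v₁.2) ⟨⁅(v₂ : F), (y : F)⁆, hLM v₂ y⟩
    rw [cj_apply] at hinv
    rw [← hinv, mul_comm, ← map_mul]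
    exact congrArg (lam : M →* ℂˣ) (Subtype.ext (by
      simp only [commutatorElement_def, Subgroup.coe_mul]
      group))
  have hhself : ∀ lam (v : L), h lam v v = 1 := fun lam v => by
    rw [hh]
    exact (congrArg (lam : M →* ℂˣ) (Subtype.ext (commutatorElement_self (v : F)))).trans (map_one _)
  have hhq : ∀ lam v, h lam v ^ q = 1 := fun lam v => MonoidHom.ext fun y => by
    have h1 := DFunLike.congr_fun (mem_qOne.1 lam.2.1) ⟨⁅(v : F), (y : F)⁆, hLM v y⟩
    rw [MonoidHom.pow_apply, MonoidHom.one_apply] at h1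
    rw [MonoidHom.pow_apply, hh, h1, MonoidHom.one_apply]
  have hqn : (L.index).Coprime q := (hq.coprime_iff_not_dvd.2 c.fq.not_dvd).symm
  -- the moved characters of exponent `q`
  set X : Subgroup (L →* ℂˣ) := qOne L q ⊓ psi L q with hX
  obtain ⟨μ0, hμ0, hμ01⟩ : ∃ μ ∈ X, μ ≠ 1 := by
    obtain ⟨μ, hμ, hμ1⟩ := c.exists_psi_ne_one
    obtain ⟨⟨i, hi⟩, -⟩ := (mem_psi L q).1 hμ
    have hex : ∃ j, μ ^ q ^ j = 1 := ⟨i, hi⟩
    have h0 : Nat.find hex ≠ 0 := fun h0 => hμ1 (by
      have := Nat.find_spec hex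
      rw [h0] at this
      exact MonoidHom.ext fun z => by
        have hz := DFunLike.congr_fun this z
        rwa [MonoidHom.pow_apply, pow_zero, pow_one] at hz)
    obtain ⟨j, hj⟩ := Nat.exists_eq_succ_of_ne_zero h0
    refine ⟨μ ^ q ^ j, Subgroup.mem_inf.2 ⟨?_, pow_mem hμ _⟩, Nat.find_min hex (by omega)⟩
    rw [mem_qOne, hom_pow_mul, ← pow_succ]
    have := Nat.find_spec hex
    rwa [hj] at this
  obtain ⟨w, hw⟩ : ∃ w : L, μ0 w ≠ 1 := by
    by_contra hall
    push Not at hall
    exact hμ01 (MonoidHom.ext hall)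
  set v : L := w ^ L.index * ((Finset.univ : Finset (F ⧸ L)).toList.map fun γ =>
    (⟨γ.out * w * γ.out⁻¹, c.fq.normalL.conj_mem w w.2 γ.out⟩ : L)).prod⁻¹ with hv
  have hval : ∀ μ : L →* ℂˣ, μ v = proj0 L μ w := fun μ => by
    rw [hv, map_mul, map_inv, map_pow, map_list_prod, List.map_map, Finset.prod_map_toList,
      proj0_apply, MonoidHom.mul_apply, MonoidHom.inv_apply, MonoidHom.pow_apply, normMap_apply,
      MonoidHom.finset_prod_apply]
    rfl
  have hkerp : ∀ μ : L →* ℂˣ, normMap L μ = 1 → proj0 L μ = μ ^ L.index := fun μ hμ => by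
    refine MonoidHom.ext fun x => ?_
    rw [proj0_apply, hμ, MonoidHom.mul_apply, MonoidHom.inv_apply, MonoidHom.one_apply, inv_one, mul_one]
  have hμ0v : μ0 v ≠ 1 := by
    rw [hval, hkerp μ0 ((mem_psi L q).1 hμ0.2).2, MonoidHom.pow_apply]
    refine fun h1 => hw (eq_one_of_pow_coprime h1 ?_ hqn)
    have h2 := DFunLike.congr_fun (mem_qOne.1 hμ0.1) w
    rwa [MonoidHom.pow_apply, MonoidHom.one_apply] at h2
  have hvK : v ∉ psiKer L q := fun hv' => hμ0v ((mem_psiKer L q).1 hv' μ0 hμ0.2)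
  have himage : ∀ lam, proj0 L (h lam v) ∈ X ∧ proj0 L (h lam v) v = 1 := fun lam => by
    refine ⟨Subgroup.mem_inf.2 ⟨?_, proj0_mem_psi L q ⟨1, by rw [pow_one]; exact hhq lam v⟩⟩, ?_⟩
    · rw [mem_qOne, ← hom_map_pow, hhq, map_one]
    · rw [hval, hkerp _ (normMap_proj0 L _), MonoidHom.pow_apply, ← hval, hhself, one_pow]
  let Φ : Ω →* (L →* ℂˣ) := MonoidHom.mk' (fun lam => proj0 L (h lam v)) fun a b => by
    rw [← map_mul]
    refine congrArg (proj0 L) (MonoidHom.ext fun y => ?_)
    rw [MonoidHom.mul_apply, hh, hh, hh, Subgroup.coe_mul, MonoidHom.mul_apply]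
  -- characters over an element of the layer
  have hphi : ∀ lam ∈ Ω, lam ≠ 1 → ∃ φ : IrrCharacter L, charDegree (φ : L → ℂ) ≠ 1 ∧
      ∀ m : M.subgroupOf L, (φ : L → ℂ) m =
        (φ : L → ℂ) 1 * ((lam : M →* ℂˣ) ⟨m.1, Subgroup.mem_subgroupOf.1 m.2⟩ : ℂ) := by
    intro lam hlam hlam1
    have := Fintype.ofFinite (M.subgroupOf L)
    haveI : (M.subgroupOf L).Normal := Subgroup.normal_subgroupOf
    let lamL : M.subgroupOf L →* ℂˣ :=
      lam.comp (Subgroup.subgroupOfEquivOfLe hML).toMonoidHom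
    obtain ⟨φ, hφ⟩ := Block.ItoMichler.exists_irr_over (M.subgroupOf L) (homChar lamL)
    have hinv : inertia (M.subgroupOf L) (homChar lamL : M.subgroupOf L → ℂ) = ⊤ := by
      rw [eq_top_iff]
      intro l _
      refine (mem_inertia_hom (M.subgroupOf L) lamL l).2 (MonoidHom.ext fun m => ?_)
      rw [cj_apply]
      exact DFunLike.congr_fun (hlam.2.2 l l.2) ⟨m.1, Subgroup.mem_subgroupOf.1 m.2⟩
    have hres : ∀ m : M.subgroupOf L, (φ : L → ℂ) m =
        (φ : L → ℂ) 1 * ((lam : M →* ℂˣ) ⟨m.1, Subgroup.mem_subgroupOf.1 m.2⟩ : ℂ) := by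
      intro m
      have h1 := res_eq_of_invariant (M.subgroupOf L) φ (homChar lamL) hinv hφ
      have h2 : (φ : L → ℂ) 1 =
          classInner (fun n : M.subgroupOf L => (φ : L → ℂ) n) (homChar lamL : M.subgroupOf L → ℂ) := by
        have h3 := h1 1
        rw [show (homChar lamL : M.subgroupOf L → ℂ) 1 = 1 from by
          show ((lamL 1 : ℂˣ) : ℂ) = 1
          rw [map_one, Units.val_one], mul_one] at h3
        exact h3
      rw [h2]
      exact h1 m
    refine ⟨φ, fun hd => hlam1 ?_, hres⟩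
    obtain ⟨ℓ, hℓ⟩ := exists_hom_of_linear (isCharacter_irr φ) ((degree_eq_iff φ 1).1 hd |>.trans Nat.cast_one)
    have hφ1 : (φ : L → ℂ) 1 = 1 := by rw [congrFun hℓ 1, map_one, Units.val_one]
    -- a linear character over the layer kills the commutators and the complement
    refine MonoidHom.ext fun m => ?_
    obtain ⟨m, hm⟩ := m
    obtain ⟨x, hx, rfl⟩ := id hm
    have hxeq : ((lam : M →* ℂˣ) ⟨x, hm⟩ : ℂ) = (ℓ x : ℂ) := by
      have h1 := hres ⟨x, Subgroup.mem_subgroupOf.2 hm⟩
      rw [hφ1, one_mul, congrFun hℓ x] at h1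
      exact h1.symm
    rw [MonoidHom.one_apply]
    suffices hℓx : ℓ x = 1 by
      refine Units.ext ?_
      rw [Units.val_one]
      exact hxeq.trans (by rw [hℓx, Units.val_one])
    have hle : M0 ≤ ℓ.ker := sup_le (Abelianization.commutator_subset_ker ℓ) fun p hp => by
      rw [MonoidHom.mem_ker]
      refine Units.ext ?_
      have hpM : (p : F) ∈ M := hPM p ((hP p).1 hp)
      have h1 := hres ⟨p, Subgroup.mem_subgroupOf.2 hpM⟩
      rw [hφ1, one_mul, congrFun hℓ p] at h1
      rw [h1, hΩP lam hlam p hpM p.2 ((hP p).1 hp)]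
    exact MonoidHom.mem_ker.1 (hle hx)
  have hΦ : Function.Injective Φ := by
    rw [injective_iff_map_eq_one]
    intro lam hlam
    by_contra hne
    have hlam1 : (lam : M →* ℂˣ) ≠ 1 := fun e => hne (Subtype.ext e)
    set f := h lam v with hf
    have hfix : ∀ g, cj L g f = f := fun g => by
      have hNf : f ^ L.index = normMap L f := MonoidHom.ext fun x => by
        have h1 := DFunLike.congr_fun (show proj0 L f = 1 from hlam) x
        rw [proj0_apply, MonoidHom.mul_apply, MonoidHom.inv_apply, MonoidHom.one_apply,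
          mul_inv_eq_one] at h1
        exact h1
      have h2 : cj L g (f ^ L.index) = f ^ L.index := by rw [hNf, cj_normMap]
      rw [hom_map_pow] at h2
      have h3 : cj L g f ^ q = 1 := by rw [← hom_map_pow, hhq, map_one]
      have h4 : cj L g f * f⁻¹ = 1 := by
        refine hom_eq_one _ (m := L.index) (k := q) (MonoidHom.ext fun x => ?_) (MonoidHom.ext fun x => ?_) hqn
        · have := DFunLike.congr_fun h2 x
          rw [MonoidHom.pow_apply, MonoidHom.pow_apply] at this
          rw [MonoidHom.pow_apply, MonoidHom.mul_apply, MonoidHom.inv_apply, mul_pow, inv_pow, this,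
            mul_inv_cancel, MonoidHom.one_apply]
        · have e1 := DFunLike.congr_fun h3 x
          have e2 := DFunLike.congr_fun (hhq lam v) x
          rw [MonoidHom.pow_apply, MonoidHom.one_apply] at e1 e2
          rw [MonoidHom.pow_apply, MonoidHom.mul_apply, MonoidHom.inv_apply, mul_pow, inv_pow, e1, e2,
            inv_one, one_mul, MonoidHom.one_apply]
      refine MonoidHom.ext fun x => ?_
      have := DFunLike.congr_fun h4 x
      rwa [MonoidHom.mul_apply, MonoidHom.inv_apply, MonoidHom.one_apply, mul_inv_eq_one] at this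
    obtain ⟨φ, hφd, hres⟩ := hphi lam lam.2 hlam1
    obtain ⟨t, htI, htL⟩ := SetLike.exists_of_lt (c.lt_inertia φ hφd)
    have htlam : cj M t (lam : M →* ℂˣ) = lam := MonoidHom.ext fun m => by
      rw [cj_apply]
      have hm : (⟨t * m * t⁻¹, c.fq.normalL.conj_mem _ (hML m.2) t⟩ : L) ∈ M.subgroupOf L :=
        Subgroup.mem_subgroupOf.2 (hMn.conj_mem m m.2 t)
      have h1 := hres ⟨_, hm⟩
      have h2 := hres ⟨⟨m, hML m.2⟩, Subgroup.mem_subgroupOf.2 m.2⟩
      have h3 : (φ : L → ℂ) ⟨t * m * t⁻¹, c.fq.normalL.conj_mem _ (hML m.2) t⟩ =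
          (φ : L → ℂ) ⟨m, hML m.2⟩ :=
        congrFun ((mem_inertia L (φ : L → ℂ) t).1 htI) ⟨m, hML m.2⟩
      rw [h3, h2] at h1
      exact Units.ext (mul_left_cancel₀ (irr_one_ne_zero φ) h1).symm
    set tv : L := ⟨t⁻¹ * v * t, by
      have := c.fq.normalL.conj_mem v v.2 t⁻¹
      rwa [inv_inv] at this⟩ with htv
    have heq : h lam tv = h lam v := MonoidHom.ext fun y => by
      have h1 := DFunLike.congr_fun (hfix t) y
      rw [cj_apply, hf, hh] at h1
      rw [← h1, hh, ← DFunLike.congr_fun htlam, cj_apply]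
      refine congrArg (lam : M →* ℂˣ) (Subtype.ext ?_)
      simp only [htv, commutatorElement_def]
      group
    set u : L := v⁻¹ * tv with hu
    have hu1 : h lam u = 1 := by
      have h1 : h lam tv = h lam v * h lam u := by rw [← hhv, hu, mul_inv_cancel_left]
      refine MonoidHom.ext fun y => ?_
      have h2 := DFunLike.congr_fun h1 y
      rw [heq, MonoidHom.mul_apply, eq_comm, mul_eq_left] at h2
      exact h2
    have hφu : (φ : L → ℂ) u ≠ 0 := by
      obtain ⟨m, ρ, hρ, hρc⟩ := id φ.2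
      have := hρ
      have hcen : ∀ y, ρ y * ρ u = ρ u * ρ y := fun y => by
        have hm : ⁅u, y⁆ ∈ M.subgroupOf L := Subgroup.mem_subgroupOf.2 (hLM u y)
        have hone : ρ ⁅u, y⁆ = 1 := by
          refine (char_eq_degree_iff ρ _).1 ?_
          have h1 := hres ⟨_, hm⟩
          have h2 := DFunLike.congr_fun hu1 y
          rw [hh, MonoidHom.one_apply] at h2
          have h4 : (⟨((⁅u, y⁆ : L) : F), Subgroup.mem_subgroupOf.1 hm⟩ : M) = ⟨⁅(u : F), (y : F)⁆, hLM u y⟩ :=
            Subtype.ext rfl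
          rw [h4, h2, Units.val_one, mul_one] at h1
          rw [hρc, h1, ← hρc, Representation.char_one]
        rw [← map_mul ρ u y, show u * y = ⁅u, y⁆ * (y * u) by rw [commutatorElement_def]; group,
          map_mul ρ ⁅u, y⁆, hone, one_mul, map_mul ρ y u]
      obtain ⟨z, hz⟩ := schur_scalar ρ (ρ u) fun y => (hcen y).symm
      intro h0
      have htr : (φ : L → ℂ) u = z * (φ : L → ℂ) 1 := by
        rw [← hρc, Representation.char_one]
        show LinearMap.trace ℂ _ (ρ u) = _
        rw [hz, map_smul, smul_eq_mul, LinearMap.trace_id]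
      rw [h0] at htr
      rcases mul_eq_zero.1 htr.symm with hz0 | h1
      · have h2 : ρ u * ρ u⁻¹ = 1 := by rw [← map_mul, mul_inv_cancel, map_one]
        rw [hz, hz0, zero_smul, zero_mul] at h2
        refine irr_one_ne_zero φ ?_
        rw [← hρc]
        show LinearMap.trace ℂ _ (ρ 1) = 0
        rw [map_one, ← h2, map_zero]
      · exact irr_one_ne_zero φ h1
    have huK : u ∈ psiKer L q := by
      by_contra hnot
      exact hφu (c.vanish φ hφd hnot)
    -- so every moved character kills `v`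
    let D : psi L q → psi L q := fun ν =>
      ⟨cj L t⁻¹ ν * (ν : L →* ℂˣ)⁻¹, mul_mem (cj_mem_psi L q ν.2 _) (inv_mem ν.2)⟩
    have hD : Function.Injective D := by
      intro a b e
      have e' : cj L t⁻¹ a * (a : L →* ℂˣ)⁻¹ = cj L t⁻¹ b * (b : L →* ℂˣ)⁻¹ := congrArg Subtype.val e
      have h1 : cj L t⁻¹ ((a : L →* ℂˣ) * (b : L →* ℂˣ)⁻¹) = (a : L →* ℂˣ) * (b : L →* ℂˣ)⁻¹ :=
        MonoidHom.ext fun x => by
          have hx := DFunLike.congr_fun e' x
          simp only [MonoidHom.mul_apply, MonoidHom.inv_apply, cj_apply] at hx ⊢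
          rw [mul_inv_eq_iff_eq_mul] at hx
          rw [hx]
          simp [mul_assoc, mul_comm, mul_left_comm]
      have h2 := c.psi_free (mul_mem a.2 (inv_mem b.2)) (fun hm => htL (by simpa using inv_mem hm)) h1
      refine Subtype.ext (MonoidHom.ext fun x => ?_)
      have hx := DFunLike.congr_fun h2 x
      rwa [MonoidHom.mul_apply, MonoidHom.inv_apply, MonoidHom.one_apply, mul_inv_eq_one] at hx
    obtain ⟨⟨ν, hν⟩, e⟩ := Finite.injective_iff_surjective.1 hD ⟨μ0, hμ0.2⟩
    refine hμ0v ?_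
    rw [show μ0 = cj L t⁻¹ ν * ν⁻¹ from (congrArg Subtype.val e).symm]
    show (cj L t⁻¹ ν * ν⁻¹) v = 1
    rw [MonoidHom.mul_apply, MonoidHom.inv_apply, cj_apply, ← map_inv, ← map_mul]
    have hc : (⟨t⁻¹ * v * t⁻¹⁻¹, c.fq.normalL.conj_mem v v.2 t⁻¹⟩ : L) * v⁻¹ = v * u * v⁻¹ :=
      Subtype.ext (by simp [hu, htv])
    rw [hc, map_mul, map_mul, map_inv, (mem_psiKer L q).1 huK ν hν, mul_one, mul_inv_cancel]
  -- fewer characters in the layer
  have hlt : Nat.card Ω < Nat.card X := by
    have := Fintype.ofFinite Ω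
    have := Fintype.ofFinite X
    rw [Nat.card_eq_fintype_card, Nat.card_eq_fintype_card]
    refine Fintype.card_lt_of_injective_of_notMem (b := ⟨μ0, hμ0⟩)
      (fun lam => (⟨Φ lam, (himage lam).1⟩ : X)) (fun a b e => hΦ (congrArg Subtype.val e)) ?_
    rintro ⟨lam, e⟩
    exact hμ0v (by
      have e' : Φ lam = μ0 := congrArg Subtype.val e
      rw [← e']
      exact (himage lam).2)
  -- both are counted by the same repunit
  have hzL : ∀ β : MulAut F, β ∈ Subgroup.zpowers α → ∀ x, β x ∈ L ↔ x ∈ L := fun β hβ =>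
    (Subgroup.zpowers_le.2 c.autL.2) hβ
  have hαM : ∀ x, α x ∈ M ↔ x ∈ M := iff_of_imp α M (hMb α c.fixL)
  have hcX := c.fixed_count L c.fixL X
    (fun g x hx => Subgroup.mem_inf.2 ⟨by
      rw [mem_qOne, ← hom_map_pow, mem_qOne.1 hx.1, map_one], cj_mem_psi L q hx.2 g⟩)
    (fun β _ hβ x hx => by
      obtain ⟨h1, h2⟩ := hx
      obtain ⟨⟨i, hi⟩, hN⟩ := (mem_psi L q).1 h2
      refine Subgroup.mem_inf.2 ⟨mem_qOne.2 (MonoidHom.ext fun y => ?_),
        (mem_psi L q).2 ⟨⟨i, MonoidHom.ext fun y => ?_⟩, ?_⟩⟩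
      · have := DFunLike.congr_fun (mem_qOne.1 h1) (restr β L hβ y)
        simpa [MonoidHom.pow_apply] using this
      · have := DFunLike.congr_fun hi (restr β L hβ y)
        simpa [MonoidHom.pow_apply] using this
      · rw [normMap_comp_restr, hN, MonoidHom.one_comp])
    (fun l hl x _ => cj_self L x l hl)
    (fun x hx hx1 g hg => by
      have hgL : g ∈ L := by
        by_contra hgL
        exact hx1 (c.psi_free hx.2 hgL hg)
      exact L.mul_mem ((c.fixL g).2 hgL) (inv_mem hgL))
    (fun x hx hx1 β hβ hβz => by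
      have hinert : inertia L (homChar x : L → ℂ) = L :=
        le_antisymm (fun g hg => by
          by_contra hgL
          exact hx1 (c.psi_free hx.2 hgL ((mem_inertia_hom L x g).1 hg)))
          (le_inertia_irr L (homChar x))
      obtain ⟨χ, hχd, hχi⟩ := exists_over_cyclic L c.fq.cyclic (homChar x)
      rw [hinert, charDegree_homChar, mul_one] at hχd
      exact c.exists_conj L β hβz hβ x χ (hχd ▸ c.fq.one_lt.ne')
        (by
          change classInner (fun n : L => (χ : F → ℂ) n) (homChar x : L → ℂ) ≠ 0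
          rw [hχi]; exact one_ne_zero))
  have hcΩ := c.fixed_count M hαM Ω
    (fun g x hx => ⟨by rw [mem_qOne, ← hom_map_pow, mem_qOne.1 hx.1, map_one],
      fun m hm => by
        rw [cj_apply]
        refine hx.2.1 _ ?_
        rw [show (⟨g * m * g⁻¹, hMn.conj_mem m m.2 g⟩ : M) = restr (MulAut.conj g) M
          (fun y => ⟨fun h => by simpa [mul_assoc] using hMn.conj_mem _ h g⁻¹,
            fun h => hMn.conj_mem y h g⟩) m from Subtype.ext rfl, MulEquiv.orderOf_eq]
        exact hm,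
      fun l hl => by
        have hl' : g * l * g⁻¹ ∈ L := c.fq.normalL.conj_mem l hl g
        rw [← cj_mul, show g * l = g * l * g⁻¹ * g by group, cj_mul, hx.2.2 _ hl']⟩)
    (fun β hβz hβ x hx => ⟨mem_qOne.2 (MonoidHom.ext fun y => by
        have := DFunLike.congr_fun (mem_qOne.1 hx.1) (restr β M hβ y)
        simpa [MonoidHom.pow_apply] using this),
      fun m hm => hx.2.1 _ (by rw [MulEquiv.coe_toMonoidHom, MulEquiv.orderOf_eq]; exact hm),
      fun l hl => MonoidHom.ext fun m => by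
        have h1 := DFunLike.congr_fun (hx.2.2 (β l) ((hzL β hβz l).2 hl)) (restr β M hβ m)
        rw [cj_apply] at h1
        rw [cj_apply, MonoidHom.comp_apply, MonoidHom.comp_apply]
        refine Eq.trans (congrArg x (Subtype.ext ?_)) h1
        simp [restr_apply]⟩)
    (fun l hl x hx => hx.2.2 l hl)
    (fun x hx hx1 g hg => by
      let S : Subgroup F :=
        { carrier := {s | cj M s x = x}
          one_mem' := cj_one M x
          mul_mem' := fun {a b} ha hb => by
            rw [Set.mem_setOf_eq] at ha hb ⊢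
            rw [cj_mul, ha, hb]
          inv_mem' := fun {a} ha => by
            rw [Set.mem_setOf_eq] at ha ⊢
            conv_lhs => rw [← ha]
            rw [← cj_mul, mul_inv_cancel, cj_one] }
      obtain ⟨t, htS, htq, htgen⟩ := exists_gen_coprime hq L S c.fq.cyclic c.fq.not_dvd
      obtain ⟨φ, hφd, hres⟩ := hphi x hx hx1
      -- the characters over `x`
      let K : Subgroup L := M.subgroupOf L
      haveI : K.Normal := Subgroup.normal_subgroupOf
      have := Fintype.ofFinite K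
      have hKab : ∀ a b : L, a * b * a⁻¹ * b⁻¹ ∈ K := fun a b => Subgroup.mem_subgroupOf.2 (hLM a b)
      let Ov := {ψ : IrrCharacter L // ∀ m : K, (ψ : L → ℂ) m =
        (ψ : L → ℂ) 1 * ((x : M →* ℂˣ) ⟨m.1, Subgroup.mem_subgroupOf.1 m.2⟩ : ℂ)}
      have hOv : ∀ (f : linearOver K) (ψ : Ov), ∀ m : K, (linMul (f : L →* ℂˣ) ψ.1 : L → ℂ) m =
          (linMul (f : L →* ℂˣ) ψ.1 : L → ℂ) 1 *
            ((x : M →* ℂˣ) ⟨m.1, Subgroup.mem_subgroupOf.1 m.2⟩ : ℂ) := fun f ψ m => by
        show ((f : L →* ℂˣ) m : ℂ) * (ψ.1 : L → ℂ) m = ((f : L →* ℂˣ) 1 : ℂ) * (ψ.1 : L → ℂ) 1 * _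
        rw [f.2 m m.2, map_one, Units.val_one, one_mul, one_mul, ψ.2 m]
      letI : MulAction (linearOver K) Ov :=
        { smul := fun f ψ => ⟨linMul (f : L →* ℂˣ) ψ.1, hOv f ψ⟩
          one_smul := fun ψ => Subtype.ext (Subtype.ext (funext fun y => by
            show ((1 : L →* ℂˣ) y : ℂ) * (ψ.1 : L → ℂ) y = _
            rw [MonoidHom.one_apply, Units.val_one, one_mul]))
          mul_smul := fun a b ψ => Subtype.ext (Subtype.ext (funext fun y => by
            show (((a : L →* ℂˣ) * b) y : ℂ) * (ψ.1 : L → ℂ) y =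
              ((a : L →* ℂˣ) y : ℂ) * (((b : L →* ℂˣ) y : ℂ) * (ψ.1 : L → ℂ) y)
            rw [MonoidHom.mul_apply, Units.val_mul, mul_assoc])) }
      have hKt : ∀ (a : F) (k : L), k ∈ K →
          (⟨a * k * a⁻¹, c.fq.normalL.conj_mem k k.2 a⟩ : L) ∈ K := fun a k hk =>
        Subgroup.mem_subgroupOf.2 (hMn.conj_mem _ (Subgroup.mem_subgroupOf.1 hk) a)
      have hlK : ∀ (a : F) (f : linearOver K), cj L a (f : L →* ℂˣ) ∈ linearOver K := fun a f k hk =>
        f.2 _ (hKt a k hk)
      let φA : Subgroup.zpowers t →* MulAut (linearOver K) :=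
        { toFun := fun a =>
            { toFun := fun f => ⟨cj L (a : F)⁻¹ f, hlK _ f⟩
              invFun := fun f => ⟨cj L (a : F) f, hlK _ f⟩
              left_inv := fun f => Subtype.ext (by
                show cj L (a : F) (cj L (a : F)⁻¹ f) = f
                rw [← cj_mul, inv_mul_cancel, cj_one])
              right_inv := fun f => Subtype.ext (by
                show cj L (a : F)⁻¹ (cj L (a : F) f) = f
                rw [← cj_mul, mul_inv_cancel, cj_one])
              map_mul' := fun f f' => Subtype.ext (map_mul (cj L (a : F)⁻¹) (f : L →* ℂˣ) f') }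
          map_one' := MulEquiv.ext fun f => Subtype.ext (by
            show cj L ((1 : Subgroup.zpowers t) : F)⁻¹ f = f
            rw [OneMemClass.coe_one, inv_one, cj_one])
          map_mul' := fun a b => MulEquiv.ext fun f => Subtype.ext (by
            show cj L ((a : F) * b)⁻¹ f = cj L (a : F)⁻¹ (cj L (b : F)⁻¹ f)
            rw [mul_inv_rev, cj_mul]) }
      have hOvt : ∀ (a : Subgroup.zpowers t) (ψ : Ov), ∀ m : K,
          conjFun L (ψ.1 : L → ℂ) (a : F)⁻¹ m = conjFun L (ψ.1 : L → ℂ) (a : F)⁻¹ 1 *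
            ((x : M →* ℂˣ) ⟨m.1, Subgroup.mem_subgroupOf.1 m.2⟩ : ℂ) := fun a ψ m => by
        have ha : cj M (a : F)⁻¹ x = x := inv_mem ((Subgroup.zpowers_le.2 htS) a.2)
        have h1 := ψ.2 ⟨_, hKt (a : F)⁻¹ m m.2⟩
        have h2 := DFunLike.congr_fun ha ⟨m.1, Subgroup.mem_subgroupOf.1 m.2⟩
        rw [cj_apply] at h2
        rw [show conjFun L (ψ.1 : L → ℂ) (a : F)⁻¹ 1 = (ψ.1 : L → ℂ) 1 from
          congrArg (ψ.1 : L → ℂ) (Subtype.ext (by simp))]
        rw [← h2]
        exact h1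
      obtain ⟨⟨φ0, hφ0⟩, hfix⟩ := exists_fixed_of_abelian_transitive (A := Subgroup.zpowers t)
        (Lam := linearOver K) (Ω := Ov) φA
        (fun a ψ => ⟨⟨conjFun L (ψ.1 : L → ℂ) (a : F)⁻¹, isIrrCharacter_conjFun L ψ.1.2 _⟩, hOvt a ψ⟩)
        (fun a b ψ => Subtype.ext (Subtype.ext (by
          show conjFun L _ ((a : F) * b)⁻¹ = conjFun L (conjFun L _ (b : F)⁻¹) (a : F)⁻¹
          rw [mul_inv_rev, conjFun_mul])))
        (fun a f ψ => Subtype.ext (Subtype.ext (funext fun y => rfl)))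
        (fun ψ ψ' => by
          have hconst : ∀ η : Ov, classInner (fun k : K => (η.1 : L → ℂ) k)
              (homChar ((x : M →* ℂˣ).comp (Subgroup.subgroupOfEquivOfLe hML).toMonoidHom) : K → ℂ) ≠ 0 := by
            intro η
            rw [show (fun k : K => (η.1 : L → ℂ) k) = fun k => (η.1 : L → ℂ) 1 *
              (homChar ((x : M →* ℂˣ).comp (Subgroup.subgroupOfEquivOfLe hML).toMonoidHom) : K → ℂ) k
              from funext fun k => η.2 k, classInner_mul_left', classInner_irr_self, mul_one]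
            exact irr_one_ne_zero η.1
          obtain ⟨f, hf, e⟩ := exists_linMul_eq K hKab (hconst ψ) (hconst ψ')
          exact ⟨⟨f, hf⟩, Subtype.ext e⟩)
        (by
          rw [Nat.card_zpowers, card_linearOver K hKab]
          have hdvd : K.index ∣ P.index := Subgroup.index_dvd_of_le fun p hp =>
            Subgroup.mem_subgroupOf.2 (hPM p ((hP p).1 hp))
          exact ((htq.symm.pow_left k).coprime_dvd_left (hk ▸ hdvd)))
        ⟨φ, hres⟩
      have hφ0d : charDegree (φ0 : L → ℂ) ≠ 1 := by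
        intro hd
        obtain ⟨ℓ, hℓ⟩ := exists_hom_of_linear (isCharacter_irr φ0) ((degree_eq_iff φ0 1).1 hd |>.trans Nat.cast_one)
        refine hx1 (MonoidHom.ext fun m => ?_)
        obtain ⟨m, hm⟩ := m
        obtain ⟨y, hy, rfl⟩ := id hm
        have hval' : ∀ (z : L) (hz : (z : F) ∈ M), (x : M →* ℂˣ) ⟨z, hz⟩ = ℓ z := fun z hz => by
          have h1 := hφ0 ⟨z, Subgroup.mem_subgroupOf.2 hz⟩
          rw [congrFun hℓ 1, congrFun hℓ z, map_one, Units.val_one, one_mul] at h1
          exact Units.ext h1.symm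
        have hle : M0 ≤ ℓ.ker := sup_le (Abelianization.commutator_subset_ker ℓ) fun p hp => by
          rw [MonoidHom.mem_ker, ← hval' p (hPM p ((hP p).1 hp))]
          exact hΩP x hx p _ p.2 ((hP p).1 hp)
        rw [MonoidHom.one_apply]
        exact (hval' y hm).trans (MonoidHom.mem_ker.1 (hle hy))
      have htI : t ∈ inertia L (φ0 : L → ℂ) := by
        have h1 : conjFun L (φ0 : L → ℂ) t⁻¹ = (φ0 : L → ℂ) :=
          congrArg Subtype.val (congrArg Subtype.val (hfix ⟨t, Subgroup.mem_zpowers t⟩))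
        have h2 := inv_mem ((mem_inertia L (φ0 : L → ℂ) t⁻¹).2 h1)
        rwa [inv_inv] at h2
      obtain ⟨j, hj⟩ := htgen g hg
      refine c.centralized φ0 hφ0d (t := g) ?_
      have h1 := (inertia L (φ0 : L → ℂ)).mul_mem (pow_mem htI j) (le_inertia_irr L φ0 (inv_mem hj))
      rwa [mul_inv_rev, inv_inv, mul_inv_cancel_left] at h1)
    (fun x hx hx1 β hβ hβz => by
      obtain ⟨φ, hφd, hres⟩ := hphi x hx hx1
      obtain ⟨χ, hχd, hχi⟩ := exists_over_cyclic L c.fq.cyclic φ
      refine c.exists_conj M β hβz hβ x χ (fun e => hφd (Nat.eq_one_of_mul_eq_one_left (hχd.symm.trans e))) ?_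
      have hχL : IsCharacter L (fun n : L => (χ : F → ℂ) n) := isCharacter_comp (isCharacter_irr χ) L.subtype
      let e := Subgroup.subgroupOfEquivOfLe hML
      have := Fintype.ofFinite (M.subgroupOf L)
      rw [← classInner_equiv e]
      obtain ⟨s, hs⟩ := classInner_isCharacter
        (isCharacter_comp (isCharacter_sub_constituent hχL φ (by rw [hχi]; exact one_ne_zero))
          (M.subgroupOf L).subtype)
        (isCharacter_irr (homChar (x.comp e.toMonoidHom)))
      obtain ⟨m, hm⟩ := classInner_char_irr_nat hχL φ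
      have hd : classInner (fun k : M.subgroupOf L => (φ : L → ℂ) k)
          (fun k => ((x (e k) : ℂˣ) : ℂ)) = (charDegree (φ : L → ℂ) : ℂ) := by
        rw [show (fun k : M.subgroupOf L => (φ : L → ℂ) k) = fun k => (φ : L → ℂ) 1 *
          (homChar (x.comp e.toMonoidHom) : M.subgroupOf L → ℂ) k from funext fun k => hres k,
          classInner_mul_left', show (fun k => ((x (e k) : ℂˣ) : ℂ)) =
          (homChar (x.comp e.toMonoidHom) : M.subgroupOf L → ℂ) from rfl, classInner_irr_self, mul_one,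
          Block.ItoMichler.one_eq_cast]
      intro h0
      have h2 : (fun k : M.subgroupOf L => ((fun n : L => (χ : F → ℂ) n) - (φ : L → ℂ)) k) =
          (fun k : M.subgroupOf L => (χ : F → ℂ) (e k : F)) -
            (fun k : M.subgroupOf L => (φ : L → ℂ) k) := rfl
      change classInner (fun k : M.subgroupOf L => ((fun n : L => (χ : F → ℂ) n) - (φ : L → ℂ)) k)
        (fun k => ((x (e k) : ℂˣ) : ℂ)) = _ at hs
      rw [h2, classInner_sub_left, h0, hd] at hs
      have h3 : ((s + charDegree (φ : L → ℂ) : ℕ) : ℂ) = 0 := by push_cast; linear_combination -hs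
      have h4 : s + charDegree (φ : L → ℂ) = 0 := by exact_mod_cast h3
      have := degree_pos φ
      omega)
  obtain ⟨e, he, hidx⟩ := c.exists_fixed_index
  obtain ⟨⟨a, ha⟩, ⟨i, hi⟩⟩ := natCard_fixed_pow hq L (restr α L c.fixL).toMonoidHom X
    fun x hx => ((mem_psi L q).1 hx.2).1
  obtain ⟨⟨b, hb⟩, ⟨i', hi'⟩⟩ := natCard_fixed_pow hq M (restr α M hαM).toMonoidHom Ω
    fun x hx => ⟨1, by rw [pow_one]; exact mem_qOne.1 hx.1⟩
  have e1 := c.repunit_eq hcX (by rw [ha]; exact pow_pos hq.pos _) Nat.card_pos hidx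
  have e2 := c.repunit_eq hcΩ (by rw [hb]; exact pow_pos hq.pos _) Nat.card_pos hidx
  rw [ha, hi] at e1
  rw [hb, hi'] at e2
  have hi0 : ∀ {H : Subgroup (L →* ℂˣ)} {n : ℕ}, Nat.card H = q ^ n → (∃ x ∈ H, x ≠ 1) → 0 < n :=
    fun {H n} hn ⟨y, hy, hy1⟩ => Nat.pos_of_ne_zero fun n0 => by
      rw [n0, pow_zero] at hn
      have := (Nat.card_eq_one_iff_unique.1 hn).1
      exact hy1 (congrArg Subtype.val (Subsingleton.elim (⟨y, hy⟩ : H) 1))
  have hi'0 : 0 < i' := Nat.pos_of_ne_zero fun n0 => by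
    obtain ⟨y, hy, hy1⟩ := hΩne
    rw [n0, pow_zero] at hi'
    have := (Nat.card_eq_one_iff_unique.1 hi').1
    exact hy1 (congrArg Subtype.val (Subsingleton.elim (⟨y, hy⟩ : Ω) 1))
  have := repunit_inj hq.one_lt he (hi0 hi ⟨μ0, hμ0, hμ01⟩) hi'0 e1 e2
  rw [hi, hi', this] at hlt
  exact lt_irrefl _ hlt

end Ctx

end CfsgLib.Char.NoDiv
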