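import Cfsg.Agent.Lib.Char.NoDiv.Basic
import Cfsg.Agent.Lib.Char.InvariantAbove

/-!
# Linear characters of normal subgroups: conjugation, norms, counting of fixed points
-/

set_option autoImplicit false
set_option linter.unusedSectionVars false

namespace CfsgLib.Char.NoDiv

open Cfsg CfsgLib CfsgLib.Char
open scoped ComplexConjugate

universe u

variable {F : Type u} [Group F]

section Conj

variable (M : Subgroup F) [M.Normal]

/-- Conjugation on linear characters of a normal subgroup. -/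
def cj (g : F) : (M →* ℂˣ) →* (M →* ℂˣ) where
  toFun f := f.comp (normalConjHom M g)
  map_one' := MonoidHom.ext fun _ => rfl
  map_mul' _ _ := MonoidHom.ext fun _ => rfl

theorem cj_apply (g : F) (f : M →* ℂˣ) (n : M) :
    cj M g f n = f ⟨g * n * g⁻¹, (inferInstance : M.Normal).conj_mem n n.2 g⟩ := rfl

theorem cj_mul (a b : F) (f : M →* ℂˣ) : cj M (a * b) f = cj M b (cj M a f) := by
  refine MonoidHom.ext fun n => ?_
  rw [cj_apply, cj_apply, cj_apply]
  refine congrArg f (Subtype.ext ?_)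
  simp [mul_assoc]

theorem cj_one (f : M →* ℂˣ) : cj M 1 f = f := by
  refine MonoidHom.ext fun n => ?_
  rw [cj_apply]
  refine congrArg f (Subtype.ext ?_)
  simp

theorem cj_injective (g : F) : Function.Injective (cj M g) := fun f f' h => by
  have h1 := congrArg (cj M g⁻¹) h
  rwa [← cj_mul, ← cj_mul, mul_inv_cancel, cj_one, cj_one] at h1

theorem cj_congr {L : Subgroup F} [L.Normal] {f : M →* ℂˣ} (hf : ∀ l ∈ L, cj M l f = f) {g h : F}
    (hgh : g⁻¹ * h ∈ L) : cj M g f = cj M h f := by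
  have h1 : h * g⁻¹ ∈ L := by
    have := (inferInstance : L.Normal).conj_mem _ hgh g
    rwa [← mul_assoc g, mul_inv_cancel, one_mul] at this
  rw [show h = h * g⁻¹ * g by group, cj_mul, hf _ h1]

theorem conjFun_eq_iff_cj (f : M →* ℂˣ) (g : F) :
    conjFun M (fun x => (f x : ℂ)) g = (fun x => (f x : ℂ)) ↔ cj M g f = f :=
  ⟨fun h => MonoidHom.ext fun x => Units.ext (congrFun h x),
    fun h => funext fun x => congrArg Units.val (DFunLike.congr_fun h x)⟩

theorem mem_inertia_hom (f : M →* ℂˣ) (g : F) :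
    g ∈ inertia M (fun x => (f x : ℂ)) ↔ cj M g f = f :=
  (mem_inertia M _ g).trans (conjFun_eq_iff_cj M f g)

theorem cj_self (f : M →* ℂˣ) (m : F) (hm : m ∈ M) : cj M m f = f := by
  refine MonoidHom.ext fun n => ?_
  rw [cj_apply]
  have h : (⟨m * n * m⁻¹, (inferInstance : M.Normal).conj_mem n n.2 m⟩ : M) =
      ⟨m, hm⟩ * n * (⟨m, hm⟩ : M)⁻¹ := Subtype.ext rfl
  rw [h, map_mul, map_mul, map_inv, mul_comm (f ⟨m, hm⟩), mul_inv_cancel_right]

end Conj

section Hom

variable {M : Type*} [Group M]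

theorem hom_one_pow (k : ℕ) : (1 : M →* ℂˣ) ^ k = 1 :=
  MonoidHom.ext fun x => by simp [MonoidHom.pow_apply]

theorem hom_inv_mul (f : M →* ℂˣ) : f⁻¹ * f = 1 := MonoidHom.ext fun x => by simp

theorem hom_mul_inv (f : M →* ℂˣ) : f * f⁻¹ = 1 := MonoidHom.ext fun x => by simp

theorem hom_mul_inv_mul (f g : M →* ℂˣ) : f * g⁻¹ * g = f := MonoidHom.ext fun x => by simp

theorem hom_mul_comm (f g : M →* ℂˣ) : f * g = g * f := MonoidHom.ext fun x => by simp [mul_comm]

theorem hom_mul_pow (f g : M →* ℂˣ) (k : ℕ) : (f * g) ^ k = f ^ k * g ^ k :=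
  MonoidHom.ext fun x => by simp [MonoidHom.pow_apply, mul_pow]

theorem hom_pow_mul (f : M →* ℂˣ) (m k : ℕ) : (f ^ m) ^ k = f ^ (m * k) :=
  MonoidHom.ext fun x => by simp [MonoidHom.pow_apply, pow_mul]

theorem hom_eq_one (f : M →* ℂˣ) {m k : ℕ} (h1 : f ^ m = 1) (h2 : f ^ k = 1)
    (hco : Nat.Coprime m k) : f = 1 := MonoidHom.ext fun x => by
  have e1 := DFunLike.congr_fun h1 x
  have e2 := DFunLike.congr_fun h2 x
  rw [MonoidHom.pow_apply, MonoidHom.one_apply] at e1 e2
  rw [MonoidHom.one_apply]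
  exact eq_one_of_pow_coprime e1 e2 hco

theorem hom_map_pow {M' : Type*} [Group M'] (φ : (M →* ℂˣ) →* (M' →* ℂˣ)) (f : M →* ℂˣ) :
    ∀ k : ℕ, φ (f ^ k) = φ f ^ k
  | 0 => by
    rw [show f ^ 0 = 1 from MonoidHom.ext fun x => by simp [MonoidHom.pow_apply],
      show φ f ^ 0 = 1 from MonoidHom.ext fun x => by simp [MonoidHom.pow_apply], map_one]
  | k + 1 => by
    rw [show f ^ (k + 1) = f ^ k * f from MonoidHom.ext fun x => by simp [MonoidHom.pow_apply, pow_succ],
      map_mul, hom_map_pow φ f k]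
    exact MonoidHom.ext fun x => by simp [MonoidHom.pow_apply, pow_succ]

end Hom

section Norm

variable (L : Subgroup F) [L.Normal] [Fintype (F ⧸ L)]

/-- The product of the conjugates under the quotient. -/
noncomputable def normMap : (L →* ℂˣ) →* (L →* ℂˣ) :=
  ∏ γ : F ⧸ L, cj L γ.out

theorem normMap_apply (f : L →* ℂˣ) : normMap L f = ∏ γ : F ⧸ L, cj L γ.out f := by
  rw [normMap, MonoidHom.finset_prod_apply]

theorem cj_out_mk (f : L →* ℂˣ) (g : F) : cj L (g : F ⧸ L).out f = cj L g f :=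
  cj_congr L (fun l hl => cj_self L f l hl) (QuotientGroup.eq.1 (QuotientGroup.out_eq' _))

theorem cj_normMap (g : F) (f : L →* ℂˣ) : cj L g (normMap L f) = normMap L f := by
  rw [normMap_apply, map_prod]
  refine Fintype.prod_bijective (fun γ : F ⧸ L => γ * (g : F ⧸ L)) (Group.mulRight_bijective _) _ _
    fun γ => ?_
  rw [← cj_mul, ← cj_out_mk L f (γ.out * g), QuotientGroup.mk_mul, QuotientGroup.out_eq']

theorem normMap_cj (g : F) (f : L →* ℂˣ) : normMap L (cj L g f) = normMap L f := by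
  rw [normMap_apply, normMap_apply]
  refine Fintype.prod_bijective (fun γ : F ⧸ L => (g : F ⧸ L) * γ) (Group.mulLeft_bijective _) _ _
    fun γ => ?_
  rw [← cj_mul, ← cj_out_mk L f (g * γ.out), QuotientGroup.mk_mul, QuotientGroup.out_eq']

theorem normMap_of_fixed (f : L →* ℂˣ) (hf : ∀ g, cj L g f = f) : normMap L f = f ^ L.index := by
  rw [normMap_apply, Finset.prod_congr rfl fun γ _ => hf γ.out, Finset.prod_const,
    Finset.card_univ, Subgroup.index_eq_card, Nat.card_eq_fintype_card]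

/-- The projection to the characters of trivial norm, raised to the index. -/
noncomputable def proj0 : (L →* ℂˣ) →* (L →* ℂˣ) :=
  powMonoidHom L.index * (normMap L)⁻¹

theorem proj0_apply (f : L →* ℂˣ) : proj0 L f = f ^ L.index * (normMap L f)⁻¹ := rfl

theorem normMap_proj0 (f : L →* ℂˣ) : normMap L (proj0 L f) = 1 := by
  have h1 : normMap L (f ^ L.index) = normMap L f ^ L.index := MonoidHom.map_pow (normMap L) f L.index
  have h2 : normMap L ((normMap L f)⁻¹) = ((normMap L f)⁻¹) ^ L.index :=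
    normMap_of_fixed L _ fun g => by
      refine MonoidHom.ext fun x => ?_
      have h := DFunLike.congr_fun (cj_normMap L g f) x
      rw [cj_apply] at h
      rw [cj_apply, MonoidHom.inv_apply, MonoidHom.inv_apply, h]
  rw [proj0_apply, map_mul, h1, h2]
  exact MonoidHom.ext fun x => by
    simp only [MonoidHom.mul_apply, MonoidHom.pow_apply, MonoidHom.inv_apply, MonoidHom.one_apply,
      inv_pow, mul_inv_cancel]

end Norm

section Chars

/-- An invariant constituent is the whole restriction. -/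
theorem res_eq_of_invariant [Fintype F] (N : Subgroup F) [N.Normal] [Fintype N] (χ : IrrCharacter F)
    (θ : IrrCharacter N) (hinv : inertia N (θ : N → ℂ) = ⊤)
    (h : classInner (fun n : N => (χ : F → ℂ) n) (θ : N → ℂ) ≠ 0) (n : N) :
    (χ : F → ℂ) n = classInner (fun n : N => (χ : F → ℂ) n) (θ : N → ℂ) * (θ : N → ℂ) n := by
  have h1 := congrFun (clifford_smul N χ.2 θ.2 h) n
  simp only [Pi.smul_apply, smul_eq_mul] at h1
  have hc : ∀ x : F, (θ : N → ℂ) ⟨x * n * x⁻¹, (inferInstance : N.Normal).conj_mem n n.2 x⟩ =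
      (θ : N → ℂ) n := fun x =>
    congrFun ((mem_inertia N (θ : N → ℂ) x).1 (hinv ▸ Subgroup.mem_top x)) n
  rw [hinv, Subgroup.card_top, indFun_normal_mem, Finset.sum_congr rfl fun x _ => hc x,
    Finset.sum_const, Finset.card_univ, nsmul_eq_mul, ← Nat.card_eq_fintype_card] at h1
  have hF : (Nat.card F : ℂ) ≠ 0 := by exact_mod_cast Nat.card_pos.ne'
  have hN : (Nat.card N : ℂ) ≠ 0 := by exact_mod_cast Nat.card_pos.ne'
  apply mul_left_cancel₀ hF
  rw [h1]
  field_simp

/-- A linear character fixing `φ` under multiplication is killed by the degree. -/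
theorem pow_degree_eq_one [Finite F] (φ : IrrCharacter F) (f : F →* ℂˣ) (h : linMul f φ = φ) :
    f ^ charDegree (φ : F → ℂ) = 1 := by
  have := Fintype.ofFinite F
  obtain ⟨d, ρ, hρ, hρψ⟩ := id φ.2
  have := hρ
  have hd : charDegree (φ : F → ℂ) = d := by
    rw [degree_eq_iff, ← hρψ, Representation.char_one, Module.finrank_fin_fun]
  have hchar : (twistRep ρ f).character = ρ.character := by
    funext x
    have h1 := congrFun (congrArg Subtype.val h) x
    simp only [linMul] at h1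
    rw [hρψ, ← h1, ← hρψ]
    show LinearMap.trace ℂ _ ((f x : ℂ) • ρ x) = _
    rw [map_smul, smul_eq_mul]
    rfl
  obtain ⟨e⟩ := nonempty_equiv_of_character_eq (twistRep ρ f) ρ hchar
  have hdet : detHom (twistRep ρ f) = detHom ρ :=
    MonoidHom.ext fun g => Units.ext (det_eq_of_equiv e g).symm
  rw [detHom_twistRep, Module.finrank_fin_fun] at hdet
  rw [hd]
  refine MonoidHom.ext fun g => ?_
  have hg := DFunLike.congr_fun hdet g
  rw [MonoidHom.mul_apply, mul_eq_left] at hg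
  exact hg

/-- Induction commutes with automorphisms preserving the subgroup. -/
theorem indFun_comp_aut [Fintype F] (T : Subgroup F) (f : T → ℂ) (b : F ≃* F)
    (hb : ∀ x, b x ∈ T ↔ x ∈ T) (x : F) :
    indFun T f (b x) = indFun T (fun t : T => f ⟨b t, (hb t).2 t.2⟩) x := by
  simp only [indFun]
  congr 1
  refine (Fintype.sum_bijective b b.bijective _ _ fun y => ?_).symm
  rw [show (b y)⁻¹ * b x * b y = b (y⁻¹ * x * y) by simp]
  by_cases hy : y⁻¹ * x * y ∈ T
  · rw [extendByZero_mem _ _ hy, extendByZero_mem _ _ ((hb _).2 hy)]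
  · rw [extendByZero_not_mem _ _ hy, extendByZero_not_mem _ _ fun h => hy ((hb _).1 h)]

end Chars

section Count

variable {Γ Y A : Type*} [CommGroup Γ] [Finite Γ] [Finite Y] [MulAction Γ Y] [Group A] [Finite A]

/-- If every orbit of `Γ` is invariant and every stabilizer is centralized, the fixed points
are counted by the fixed subgroup. -/
theorem card_fixed (φ : A →* MulAut Γ) (act : A → Y → Y) (a₀ : A)
    (hgen : ∀ a, ∃ k : ℕ, a = a₀ ^ k) (hone : ∀ y, act 1 y = y)
    (hmul : ∀ a b y, act (a * b) y = act a (act b y))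
    (hcompat : ∀ a (γ : Γ) y, act a (γ • y) = φ a γ • act a y)
    (hcop : (Nat.card Γ).Coprime (Nat.card A))
    (hstab : ∀ (γ : Γ) (y : Y), γ • y = y → φ a₀ γ = γ)
    (horb : ∀ y : Y, ∃ γ : Γ, γ • y = act a₀ y) :
    Nat.card Γ * Nat.card {y : Y // act a₀ y = y} =
      Nat.card {γ : Γ // φ a₀ γ = γ} * Nat.card Y := by
  classical
  have hpow : ∀ (k : ℕ) (y : Y), ∃ γ : Γ, γ • y = act (a₀ ^ k) y := by
    intro k
    induction k with
    | zero => exact fun y => ⟨1, by rw [one_smul, pow_zero, hone]⟩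
    | succ k ih =>
      intro y
      obtain ⟨γ, hγ⟩ := horb y
      obtain ⟨δ, hδ⟩ := ih (act a₀ y)
      exact ⟨δ * γ, by rw [mul_smul, hγ, hδ, pow_succ, hmul]⟩
  -- every orbit has a fixed point
  have hfix : ∀ y : Y, ∃ (γ : Γ) (x : Y), γ • x = y ∧ act a₀ x = x := by
    intro y
    let Ω := MulAction.orbit Γ y
    have hΩ : ∀ a : A, ∀ z ∈ Ω, act a z ∈ Ω := by
      intro a z hz
      obtain ⟨k, rfl⟩ := hgen a
      obtain ⟨δ, hδ⟩ := hpow k z
      rw [← hδ]
      exact MulAction.mem_orbit_of_mem_orbit δ hz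
    obtain ⟨⟨x, hx⟩, hx'⟩ := exists_fixed_of_abelian_transitive (A := A) (Lam := Γ) (Ω := Ω) φ
      (fun a z => ⟨act a z.1, hΩ a z.1 z.2⟩)
      (fun a b z => Subtype.ext (hmul a b z.1))
      (fun a γ z => Subtype.ext (hcompat a γ z.1))
      (fun z z' => MulAction.exists_smul_eq Γ z z') hcop ⟨y, MulAction.mem_orbit_self y⟩
    obtain ⟨γ, hγ⟩ := hx
    exact ⟨γ⁻¹, x, by rw [← hγ]; exact inv_smul_smul γ y, congrArg Subtype.val (hx' a₀)⟩
  choose g0 x0 hg0 hx0 using hfix
  -- a fixed translate of a fixed point comes from a fixed element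
  have hkey : ∀ (δ : Γ) (x : Y), act a₀ x = x → act a₀ (δ • x) = δ • x → φ a₀ δ = δ := by
    intro δ x hx hδx
    rw [hcompat, hx] at hδx
    set u := δ⁻¹ * φ a₀ δ with hu
    have hux : u • x = x := by rw [hu, mul_smul, hδx, inv_smul_smul]
    have hfu := hstab u x hux
    have hit : ∀ k : ℕ, φ (a₀ ^ k) δ = δ * u ^ k := by
      intro k
      induction k with
      | zero => simp
      | succ k ih =>
        rw [pow_succ', map_mul, MulAut.mul_apply, ih, map_mul, map_pow, hfu,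
          show φ a₀ δ = δ * u from (mul_inv_cancel_left δ _).symm, mul_assoc, pow_succ']
    have h1 := hit (orderOf a₀)
    rw [pow_orderOf_eq_one, map_one, MulAut.one_apply, eq_comm, mul_eq_left] at h1
    have hu1 : u = 1 := eq_one_of_pow_coprime h1 (pow_card_eq_one' (x := u))
      (Nat.Coprime.coprime_dvd_left (orderOf_dvd_natCard a₀) hcop.symm)
    rw [hu, inv_mul_eq_one] at hu1
    exact hu1.symm
  rw [← Nat.card_prod, ← Nat.card_prod]
  refine Nat.card_congr
    { toFun := fun p => (⟨p.1⁻¹ * g0 (p.1 • (p.2 : Y)), ?_⟩, p.1 • (p.2 : Y))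
      invFun := fun q => (g0 q.2 * (q.1 : Γ)⁻¹, ⟨(q.1 : Γ) • x0 q.2, ?_⟩)
      left_inv := ?_
      right_inv := ?_ }
  · refine hkey _ (x0 (p.1 • (p.2 : Y))) (hx0 _) ?_
    rw [mul_smul, hg0, inv_smul_smul]
    exact p.2.2
  · rw [hcompat, q.1.2, hx0]
  · rintro ⟨γ, x, hx⟩
    refine Prod.ext ?_ (Subtype.ext ?_)
    · show g0 (γ • x) * (γ⁻¹ * g0 (γ • x))⁻¹ = γ
      rw [mul_inv_rev, inv_inv, mul_inv_cancel_left]
    · show (γ⁻¹ * g0 (γ • x)) • x0 (γ • x) = x
      rw [mul_smul, hg0, inv_smul_smul]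
  · rintro ⟨⟨δ, hδ⟩, y⟩
    have hy : (g0 y * δ⁻¹) • δ • x0 y = y := by rw [← mul_smul, inv_mul_cancel_right, hg0]
    refine Prod.ext (Subtype.ext ?_) hy
    show (g0 y * δ⁻¹)⁻¹ * g0 ((g0 y * δ⁻¹) • δ • x0 y) = δ
    rw [hy, mul_inv_rev, inv_inv, mul_assoc, inv_mul_cancel, mul_one]

end Count

/-- Equal repunits have equal bases. -/
theorem repunit_inj {q e a b x y : ℕ} (hq : 1 < q) (he : 1 < e) (hx : 0 < x) (hy : 0 < y)
    (ha : q ^ x + e = e * q ^ a + 1) (hb : q ^ y + e = e * q ^ b + 1) : x = y := by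
  have hpos : ∀ {x a : ℕ}, 0 < x → q ^ x + e = e * q ^ a + 1 → 0 < a ∧ a < x := by
    intro x a hx h
    refine ⟨Nat.pos_of_ne_zero fun ha0 => ?_, ?_⟩
    · rw [ha0, pow_zero, mul_one] at h
      have : 1 < q ^ x := Nat.one_lt_pow hx.ne' hq
      omega
    · by_contra hle
      have h1 : q ^ x ≤ q ^ a := Nat.pow_le_pow_right (by omega) (not_lt.1 hle)
      have h2 : 2 * q ^ a ≤ e * q ^ a := Nat.mul_le_mul_right _ he
      have h3 : 1 < q ^ x := Nat.one_lt_pow hx.ne' hq
      nlinarith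
  suffices key : ∀ {a b x y : ℕ}, 0 < x → 0 < y → q ^ x + e = e * q ^ a + 1 →
      q ^ y + e = e * q ^ b + 1 → ¬ a < b by
    have hab : a = b := le_antisymm (not_lt.1 (key hy hx hb ha)) (not_lt.1 (key hx hy ha hb))
    subst hab
    exact Nat.pow_right_injective hq (show q ^ x = q ^ y by omega)
  intro a b x y hx hy ha hb hab
  obtain ⟨ha0, hax⟩ := hpos hx ha
  obtain ⟨hb0, hby⟩ := hpos hy hb
  obtain ⟨i, rfl⟩ := Nat.exists_eq_add_of_lt hab
  obtain ⟨j, rfl⟩ := Nat.exists_eq_add_of_lt hax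
  obtain ⟨k, rfl⟩ := Nat.exists_eq_add_of_lt hby
  -- compare modulo `q ^ (a + 1)`
  have hA : (q : ℤ) ^ (a + j + 1) + e = e * (q : ℤ) ^ a + 1 := by exact_mod_cast ha
  have hB : (q : ℤ) ^ (a + i + 1 + k + 1) + e = e * (q : ℤ) ^ (a + i + 1) + 1 := by exact_mod_cast hb
  have hdvd : (q : ℤ) ^ (a + 1) ∣ (e : ℤ) * (q : ℤ) ^ a := by
    refine ⟨(q : ℤ) ^ j + e * (q : ℤ) ^ i - (q : ℤ) ^ (i + k + 1), ?_⟩
    have h1 : (q : ℤ) ^ (a + j + 1) = (q : ℤ) ^ (a + 1) * (q : ℤ) ^ j := by ring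
    have h2 : (q : ℤ) ^ (a + i + 1) = (q : ℤ) ^ (a + 1) * (q : ℤ) ^ i := by ring
    have h3 : (q : ℤ) ^ (a + i + 1 + k + 1) = (q : ℤ) ^ (a + 1) * (q : ℤ) ^ (i + k + 1) := by ring
    linear_combination (-1) * hA + hB + h1 + (e : ℤ) * h2 - h3
  rw [pow_succ, mul_comm (e : ℤ)] at hdvd
  have hqe : (q : ℤ) ∣ (e : ℤ) := Int.dvd_of_mul_dvd_mul_left (by positivity) hdvd
  have hqe1 : (q : ℤ) ∣ (e : ℤ) - 1 := by
    refine ⟨(e : ℤ) * (q : ℤ) ^ (a + i) - (q : ℤ) ^ (a + i + k + 1), ?_⟩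
    linear_combination hB
  have h1 : (q : ℤ) ∣ 1 := by simpa using Int.dvd_sub hqe hqe1
  have : q ∣ 1 := by exact_mod_cast h1
  simp only [Nat.dvd_one] at this
  omega

end CfsgLib.Char.NoDiv
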