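import Cfsg.Agent.Lib.Char.NoDiv.Abelian

/-!
# Solvable groups without divisibility among degrees and with disconnected degree graph
-/

set_option autoImplicit false
set_option linter.unusedSectionVars false

namespace CfsgLib.Char.NoDiv

open Cfsg CfsgLib CfsgLib.Char

universe u

variable {G : Type u} [Group G]

/-- If every vertex is reachable from one prime, there are not two components. -/
theorem comp_ne_two
    (h : ∀ v w : degreePrimes G, ((degreeGraph G).induce (degreePrimes G)).Reachable v w) :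
    Nat.card ((degreeGraph G).induce (degreePrimes G)).ConnectedComponent ≠ 2 := by
  have : Subsingleton ((degreeGraph G).induce (degreePrimes G)).ConnectedComponent :=
    SimpleGraph.Preconnected.subsingleton_connectedComponent h
  intro h2
  obtain ⟨a, b, hab, -⟩ := Nat.card_eq_two_iff.1 h2
  exact hab (Subsingleton.elim a b)

/-- With a common divisor graph centred at one degree, the graph is connected. -/
theorem comp_ne_two_of_one_degree (d₀ : ℕ) (hd₀ : d₀ ∈ charDegrees G)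
    (h : ∀ d ∈ charDegrees G, d ≠ 1 → d = d₀) :
    Nat.card ((degreeGraph G).induce (degreePrimes G)).ConnectedComponent ≠ 2 := by
  refine comp_ne_two ?_
  rintro ⟨p, hp, a, ha, hpa⟩ ⟨r, hr, b, hb, hrb⟩
  have ha0 : a = d₀ := h a ha fun e => hp.not_dvd_one (e ▸ hpa)
  have hb0 : b = d₀ := h b hb fun e => hr.not_dvd_one (e ▸ hrb)
  exact DegComp.reach_of_dvd hd₀ hp hr (ha0 ▸ hpa) (hb0 ▸ hrb)

/-- Exactly three degrees. -/
theorem three_degrees [Fintype G] [Group.IsSolvable G] (hnd : NoDvd G)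
    (htwo : Nat.card ((degreeGraph G).induce (degreePrimes G)).ConnectedComponent = 2) :
    Nat.card ↥(charDegrees G) = 3 := by
  classical
  obtain ⟨d₁, hd₁, hd₁1⟩ : ∃ d ∈ charDegrees G, d ≠ 1 := by
    by_contra hc
    push Not at hc
    refine comp_ne_two ?_ htwo
    rintro ⟨p, hp, a, ha, hpa⟩
    exact absurd (hc a ha ▸ hpa) hp.not_dvd_one
  have hna : ∃ a b : G, a * b ≠ b * a := by
    by_contra hc
    push Not at hc
    obtain ⟨χ, rfl⟩ := hd₁
    exact hd₁1 ((degree_eq_iff χ 1).2 (by rw [Nat.cast_one]; exact degree_one_of_comm hc χ))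
  rcases exists_minQuot hna with ⟨K, hK, p, hp, hP, hKG⟩ | ⟨K, F, p, fq⟩
  · refine absurd htwo (comp_ne_two_of_one_degree d₁ hd₁ fun d hd hd1 => ?_)
    obtain ⟨χ, rfl⟩ := hd
    obtain ⟨χ₁, rfl⟩ := hd₁
    exact all_eq_of_pQuotient hnd K hp hP hKG χ χ₁ hd1 hd₁1
  haveI := fq.normalK
  haveI := fq.normalL
  have := Fintype.ofFinite F
  have hp := fq.prime
  have hone : (fun _ : F => (1 : ℂ)) 1 = ((1 : ℕ) : ℂ) := Nat.cast_one.symm
  have hf : F.index ∈ charDegrees G := by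
    have h := fq.degree (⟨fun _ => 1, isIrrCharacter_one⟩ : IrrCharacter F) (by
      rw [show charDegree (fun _ : F => (1 : ℂ)) = 1 by simp [charDegree]]
      exact hp.not_dvd_one)
    rwa [show charDegree (fun _ : F => (1 : ℂ)) = 1 by simp [charDegree], mul_one] at h
  set f := F.index with hfdef
  -- constituents on `F`
  have hcon : ∀ χ : IrrCharacter G, charDegree (χ : G → ℂ) ≠ 1 → charDegree (χ : G → ℂ) ≠ f →
      ∀ ψ : IrrCharacter F, classInner (fun n : F => (χ : G → ℂ) n) (ψ : F → ℂ) ≠ 0 →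
      p ∣ charDegree (ψ : F → ℂ) ∧ charDegree (ψ : F → ℂ) ∣ charDegree (χ : G → ℂ) ∧
        charDegree (χ : G → ℂ) / charDegree (ψ : F → ℂ) ∣ f := by
    intro χ hχ1 hχf ψ hψ
    obtain ⟨hd, hr⟩ := ratio_dvd_index F χ.2 ψ.2 hψ (Block.ItoMichler.one_eq_cast χ)
      (Block.ItoMichler.one_eq_cast ψ)
    refine ⟨?_, hd, hr⟩
    by_contra hpψ
    have h1 := hnd.eq_one_of_mul hf (fq.degree ψ hpψ) fq.one_lt
    rw [h1, Nat.div_one] at hr
    have := degree_pos χ
    exact hχf (hnd.eq_of_dvd ⟨χ, rfl⟩ hf (by omega) hr)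
  have hpdiv : ∀ d ∈ charDegrees G, d ≠ 1 → d ≠ f → p ∣ d := by
    rintro _ ⟨χ, rfl⟩ hd1 hdf
    obtain ⟨ψ, hψ⟩ := exists_irr_inner_ne_zero (G := F)
      (isCharacter_comp (isCharacter_irr χ) F.subtype) fun h0 => irr_one_ne_zero χ (congrFun h0 1)
    obtain ⟨h1, h2, -⟩ := hcon χ hd1 hdf ψ hψ
    exact h1.trans h2
  -- degrees other than the index are prime to it
  have hcop : ∀ d ∈ charDegrees G, d ≠ 1 → d ≠ f → d.Coprime f := by
    intro d hd hd1 hdf
    by_contra hnc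
    obtain ⟨r, hr, hrd, hrf⟩ := Nat.Prime.not_coprime_iff_dvd.1 hnc
    have hpv : p ∈ degreePrimes G := ⟨hp, d, hd, hpdiv d hd hd1 hdf⟩
    have hreach : ∀ v : degreePrimes G,
        ((degreeGraph G).induce (degreePrimes G)).Reachable v ⟨p, hpv⟩ := by
      rintro ⟨s, hs, b, hb, hsb⟩
      have hb1 : b ≠ 1 := fun e => hs.not_dvd_one (e ▸ hsb)
      by_cases hbf : b = f
      · subst hbf
        exact (DegComp.reach_of_dvd hb hs hr hsb hrf).trans
          (DegComp.reach_of_dvd hd hr hp hrd (hpdiv d hd hd1 hdf))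
      · exact DegComp.reach_of_dvd hb hs hp hsb (hpdiv b hb hb1 hbf)
    exact comp_ne_two (fun v w => (hreach v).trans (hreach w).symm) htwo
  -- so they are the invariant degrees of `F`
  have hres : ∀ χ : IrrCharacter G, charDegree (χ : G → ℂ) ≠ 1 → charDegree (χ : G → ℂ) ≠ f →
      ∀ ψ : IrrCharacter F, classInner (fun n : F => (χ : G → ℂ) n) (ψ : F → ℂ) ≠ 0 →
      charDegree (χ : G → ℂ) = charDegree (ψ : F → ℂ) ∧ ∀ n : F, (χ : G → ℂ) n = (ψ : F → ℂ) n := by
    intro χ h1 hf' ψ hψ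
    obtain ⟨-, hd, hr⟩ := hcon χ h1 hf' ψ hψ
    have he := Nat.eq_one_of_dvd_coprimes (hcop _ ⟨χ, rfl⟩ h1 hf') (Nat.div_dvd_of_dvd hd) hr
    have heq := (Nat.eq_of_dvd_of_div_eq_one hd he).symm
    refine ⟨heq, fun n => congrFun ((degree_le_of_constituent
      (isCharacter_comp (isCharacter_irr χ) F.subtype) ψ hψ (a := charDegree (χ : G → ℂ))
      (b := charDegree (ψ : F → ℂ)) ?_ (Block.ItoMichler.one_eq_cast ψ)).2 heq) n⟩
    show (χ : G → ℂ) ((1 : F) : G) = _
    rw [OneMemClass.coe_one, Block.ItoMichler.one_eq_cast]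
  have hnl : ∀ ψ : IrrCharacter F, charDegree (ψ : F → ℂ) ≠ 1 → ∃ χ : IrrCharacter G,
      charDegree (χ : G → ℂ) = charDegree (ψ : F → ℂ) ∧ charDegree (χ : G → ℂ) ≠ f ∧
        ∀ n : F, (χ : G → ℂ) n = (ψ : F → ℂ) n := by
    intro ψ hψ1
    obtain ⟨χ, hχ⟩ := Block.ItoMichler.exists_irr_over F ψ
    obtain ⟨hd, hr⟩ := ratio_dvd_index F χ.2 ψ.2 hχ (Block.ItoMichler.one_eq_cast χ)
      (Block.ItoMichler.one_eq_cast ψ)
    have h1 : charDegree (χ : G → ℂ) ≠ 1 := fun e => hψ1 (Nat.dvd_one.1 (e ▸ hd))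
    have h2 : charDegree (χ : G → ℂ) ≠ f := fun e => by
      by_cases hpψ : p ∣ charDegree (ψ : F → ℂ)
      · exact fq.not_dvd (show p ∣ f from e ▸ hpψ.trans hd)
      · exact hψ1 (hnd.eq_one_of_mul hf (fq.degree ψ hpψ) fq.one_lt)
    obtain ⟨h3, h4⟩ := hres χ h1 h2 ψ hχ
    exact ⟨χ, h3, h2, h4⟩
  have hndF : NoDvd F := by
    rintro a ⟨ψ, rfl⟩ b ⟨ψ', rfl⟩ ha hab
    obtain ⟨χ, hχ, -⟩ := hnl ψ (by omega)
    obtain ⟨χ', hχ', -⟩ := hnl ψ' (by omega)
    exact hnd _ (hχ ▸ ⟨χ, rfl⟩) _ (hχ' ▸ ⟨χ', rfl⟩) ha hab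
  -- an element outside `F` of prime power order
  obtain ⟨r, hr, hrf⟩ := Nat.exists_prime_and_dvd fq.one_lt.ne'
  have := Fact.mk hr
  obtain ⟨S⟩ := (inferInstance : Nonempty (Sylow r G))
  obtain ⟨a, haS, haF⟩ : ∃ a ∈ (S : Subgroup G), a ∉ F := by
    by_contra hc
    push Not at hc
    exact S.not_dvd_index (hrf.trans (Subgroup.index_dvd_of_le hc))
  obtain ⟨i, hi⟩ := IsPGroup.iff_orderOf.1 S.isPGroup' ⟨a, haS⟩
  rw [Subgroup.orderOf_mk] at hi
  set α : MulAut F := MulAut.conjNormal a with hαdef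
  have hαd : orderOf α ∣ r ^ i := hi ▸ orderOf_map_dvd (MulAut.conjNormal : G →* MulAut F) a
  have hα : ∀ x : F, ((α x : F) : G) = a * x * a⁻¹ := fun x => MulAut.conjNormal_apply a x
  have hyp : Hyp α (K.subgroupOf F) :=
    { nd := hndF
      inv := fun ψ hψ x => by
        obtain ⟨χ, -, -, hres'⟩ := hnl ψ hψ
        rw [← hres', ← hres', hα]
        exact isClassFunction_irr χ x a
      derived_le := by
        rw [commutator_def, Subgroup.commutator_le]
        intro x _ y _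
        rw [commutatorElement_def]
        exact Subgroup.mem_subgroupOf.2 (fq.comm_mem x x.2 y y.2)
      fixE := fun x => by
        rw [Subgroup.mem_subgroupOf, Subgroup.mem_subgroupOf, hα]
        refine ⟨fun h => ?_, fun h => fq.normalK.conj_mem _ h a⟩
        have h1 := fq.normalK.conj_mem _ h a⁻¹
        simpa [mul_assoc] using h1
      moves := fun x hx h => hx (Subgroup.mem_subgroupOf.2 (fq.free a haF x x.2 (by
        have h1 := Subgroup.mem_subgroupOf.1 h
        rwa [Subgroup.coe_mul, Subgroup.coe_inv, hα] at h1)))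
      ne_top := fun h => fq.not_le (by
        have h1 : F ≤ K := Subgroup.subgroupOf_eq_top.1 h
        refine le_trans ?_ h1
        rw [fq.eq_sup]
        exact le_sup_left)
      coprime := fun d hd => by
        obtain ⟨ψ, rfl⟩ := hd
        refine Nat.Coprime.coprime_dvd_left hαd (Nat.Coprime.pow_left i ?_)
        by_cases hψ : charDegree (ψ : F → ℂ) = 1
        · rw [hψ]; exact Nat.coprime_one_right r
        obtain ⟨χ, hχ, hχf, -⟩ := hnl ψ hψ
        rw [← hχ]
        exact ((hcop _ ⟨χ, rfl⟩ (hχ ▸ hψ) hχf).coprime_dvd_right hrf).symm }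
  have hother : ∀ d ∈ charDegrees G, d ≠ 1 → d ≠ f → ∀ d' ∈ charDegrees G, d' ≠ 1 → d' ≠ f → d = d' := by
    rintro _ ⟨χ, rfl⟩ h1 h2 _ ⟨χ', rfl⟩ h1' h2'
    obtain ⟨ψ, hψ⟩ := exists_irr_inner_ne_zero (G := F)
      (isCharacter_comp (isCharacter_irr χ) F.subtype) fun h0 => irr_one_ne_zero χ (congrFun h0 1)
    obtain ⟨ψ', hψ'⟩ := exists_irr_inner_ne_zero (G := F)
      (isCharacter_comp (isCharacter_irr χ') F.subtype) fun h0 => irr_one_ne_zero χ' (congrFun h0 1)
    obtain ⟨e, -⟩ := hres χ h1 h2 ψ hψ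
    obtain ⟨e', -⟩ := hres χ' h1' h2' ψ' hψ'
    rw [e, e']
    exact hyp.degree_unique ψ ψ' (e ▸ h1) (e' ▸ h1')
  obtain ⟨n, hn, hn1, hnf⟩ : ∃ n ∈ charDegrees G, n ≠ 1 ∧ n ≠ f := by
    by_contra hc
    push Not at hc
    exact comp_ne_two_of_one_degree f hf hc htwo
  have hset : charDegrees G = ↑({1, f, n} : Finset ℕ) := by
    ext d
    simp only [Finset.coe_insert, Finset.coe_singleton, Set.mem_insert_iff, Set.mem_singleton_iff]
    constructor
    · intro hd
      by_cases h1 : d = 1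
      · exact Or.inl h1
      by_cases h2 : d = f
      · exact Or.inr (Or.inl h2)
      exact Or.inr (Or.inr (hother d hd h1 h2 n hn hn1 hnf))
    · rintro (rfl | rfl | rfl)
      · exact DegComp.mem_charDegrees isIrrCharacter_one Nat.cast_one.symm
      · exact hf
      · exact hn
  rw [Nat.card_coe_set_eq, hset, Set.ncard_coe_finset, Finset.card_eq_three]
  exact ⟨1, f, n, fq.one_lt.ne, hn1.symm, hnf.symm, rfl⟩

end CfsgLib.Char.NoDiv
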