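import Cfsg.Agent.Lib.Char.NoDiv.Basic
import Cfsg.Agent.Lib.Char.ThreeDegreesQuotient
import Cfsg.Agent.Lib.Coprime.FpfAction
import Mathlib.GroupTheory.SchurZassenhaus

/-!
# A minimal nonabelian quotient: prime power order or Frobenius with cyclic complement
-/

set_option autoImplicit false
set_option linter.unusedSectionVars false

namespace CfsgLib.Char.NoDiv

open Cfsg CfsgLib CfsgLib.Char
open scoped ComplexConjugate commutatorElement

universe u

variable {G : Type u} [Group G]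

/-- `G/K` is a minimal nonabelian Frobenius quotient with kernel `L/K`, a `p`-group. -/
structure FrobQuot (K L : Subgroup G) (p : ℕ) : Prop where
  normalK : K.Normal
  normalL : L.Normal
  prime : p.Prime
  eq_sup : L = commutator G ⊔ K
  le : K ≤ L
  not_le : ¬ commutator G ≤ K
  one_lt : 1 < L.index
  relIndex_pow : ∃ d, K.relIndex L = p ^ d
  not_dvd : ¬ p ∣ L.index
  cyclic : ∀ [L.Normal], IsCyclic (G ⧸ L)
  comm_mem : ∀ a ∈ L, ∀ b ∈ L, a * b * a⁻¹ * b⁻¹ ∈ K
  maximal : ∀ N : Subgroup G, N.Normal → K < N → commutator G ≤ N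
  free : ∀ y ∉ L, ∀ v ∈ L, y * v * y⁻¹ * v⁻¹ ∈ K → v ∈ K
  degree : ∀ [Fintype G] (ψ : IrrCharacter L), ¬ p ∣ charDegree (ψ : L → ℂ) →
    L.index * charDegree (ψ : L → ℂ) ∈ charDegrees G

/-- Conjugation fixes no nontrivial linear character of `L` over `K`. -/
theorem free_hom [Finite G] {K L : Subgroup G} (hK : K.Normal) [hL : L.Normal]
    (hfree : ∀ y ∉ L, ∀ v ∈ L, y * v * y⁻¹ * v⁻¹ ∈ K → v ∈ K) (y : G) (hy : y ∉ L)
    (f : L →* ℂˣ) (hfK : ∀ k ∈ K.subgroupOf L, f k = 1)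
    (hfy : f.comp (MulAut.conjNormal y : L ≃* L).toMonoidHom = f) : f = 1 := by
  have := hK
  set π := QuotientGroup.mk' K
  -- the commutator map on `L / K` is onto
  let α : L.map π → L.map π := fun v =>
    ⟨(π y * v * (π y)⁻¹) * (v : G ⧸ K)⁻¹, by
      obtain ⟨x, hx, hxv⟩ := v.2
      refine ⟨y * x * y⁻¹ * x⁻¹, mul_mem (hL.conj_mem x hx y) (inv_mem hx), ?_⟩
      simp [← hxv]⟩
  have hα : Function.Injective α := by
    intro v w e
    have e' : (π y * v * (π y)⁻¹) * (v : G ⧸ K)⁻¹ = (π y * w * (π y)⁻¹) * (w : G ⧸ K)⁻¹ :=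
      congrArg Subtype.val e
    obtain ⟨x, hx, hxv⟩ := v.2
    obtain ⟨z, hz, hzw⟩ := w.2
    have h1 : π y * (π z)⁻¹ * π x * (π y)⁻¹ = (π z)⁻¹ * π x := by
      rw [← hxv, ← hzw] at e'
      calc π y * (π z)⁻¹ * π x * (π y)⁻¹
          = (π y * π z * (π y)⁻¹)⁻¹ * (π y * π x * (π y)⁻¹ * (π x)⁻¹) * π x := by group
        _ = (π z)⁻¹ * π x := by rw [e']; group
    have h2 := hfree y hy (z⁻¹ * x) (mul_mem (inv_mem hz) hx) ((QuotientGroup.eq_one_iff _).1 (by
      show π _ = 1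
      simp only [map_mul, map_inv]
      rw [← mul_assoc (π y), h1]
      group))
    refine Subtype.ext ?_
    rw [← hxv, ← hzw]
    symm
    exact QuotientGroup.eq.2 h2
  refine MonoidHom.ext fun x => ?_
  obtain ⟨v, hv⟩ := Finite.injective_iff_surjective.1 hα ⟨π (x : G), Subgroup.mem_map_of_mem π x.2⟩
  obtain ⟨w, hw, hwv⟩ := v.2
  have hv' : π y * π w * (π y)⁻¹ * (π w)⁻¹ = π (x : G) := by
    rw [hwv]
    exact congrArg Subtype.val hv
  have hk : ((MulAut.conjNormal y : L ≃* L) ⟨w, hw⟩ * (⟨w, hw⟩ : L)⁻¹)⁻¹ * x ∈ K.subgroupOf L := by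
    refine Subgroup.mem_subgroupOf.2 ((QuotientGroup.eq_one_iff _).1 ?_)
    show π _ = 1
    simp only [Subgroup.coe_mul, Subgroup.coe_inv, MulAut.conjNormal_apply, map_mul, map_inv]
    rw [← hv']
    group
  have h3 := hfK _ hk
  have h4 : f ((MulAut.conjNormal y : L ≃* L) ⟨w, hw⟩) = f ⟨w, hw⟩ := DFunLike.congr_fun hfy _
  rw [map_mul, map_inv, map_mul, map_inv, h4, mul_inv_cancel, inv_one, one_mul] at h3
  exact h3

/-- A nonabelian solvable group has a nonabelian quotient of prime power order or a Frobenius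
quotient. -/
theorem exists_minQuot [Finite G] [Group.IsSolvable G] (hna : ∃ a b : G, a * b ≠ b * a) :
    (∃ (K : Subgroup G) (_ : K.Normal) (p : ℕ), p.Prime ∧ IsPGroup p (G ⧸ K) ∧ ¬ commutator G ≤ K) ∨
      ∃ (K L : Subgroup G) (p : ℕ), FrobQuot K L p := by
  classical
  obtain ⟨K, ⟨hKn, hKG⟩, hKmax⟩ := Set.Finite.exists_maximal
    (s := {K : Subgroup G | K.Normal ∧ ¬ commutator G ≤ K}) (Set.toFinite _)
    ⟨⊥, inferInstance, fun hb => by
      obtain ⟨a, b, hab⟩ := hna
      refine hab (commutatorElement_eq_one_iff_mul_comm.1 (Subgroup.mem_bot.1 (hb ?_)))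
      rw [commutator_def]
      exact Subgroup.commutator_mem_commutator (Subgroup.mem_top a) (Subgroup.mem_top b)⟩
  haveI := hKn
  set π := QuotientGroup.mk' K with hπ
  have hsur : Function.Surjective π := QuotientGroup.mk'_surjective K
  have hkπ : ∀ x, π x = 1 ↔ x ∈ K := fun x => QuotientGroup.eq_one_iff x
  have hmapc : (commutator G).map π = commutator (G ⧸ K) := by
    rw [commutator_def, commutator_def, Subgroup.map_commutator, Subgroup.map_top_of_surjective π hsur]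
  haveI : Group.IsSolvable (G ⧸ K) := Group.isSolvable_of_surjective hsur
  have hQna : commutator (G ⧸ K) ≠ ⊥ := by
    rw [← hmapc, ne_eq, Subgroup.map_eq_bot_iff, hπ, QuotientGroup.ker_mk']
    exact hKG
  have hQu : ∀ S : Subgroup (G ⧸ K), S.Normal → S ≠ ⊥ → commutator (G ⧸ K) ≤ S := by
    intro S hS hSne
    rw [← hmapc, Subgroup.map_le_iff_le_comap]
    by_contra hc
    have hle : K ≤ S.comap π := fun x hx => by
      rw [Subgroup.mem_comap, (hkπ x).2 hx]
      exact one_mem _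
    have he : S.comap π = K := le_antisymm (hKmax ⟨hS.comap π, hc⟩ hle) hle
    refine hSne ((Subgroup.eq_bot_iff_forall _).2 fun z hz => ?_)
    obtain ⟨x, rfl⟩ := hsur z
    have hx : x ∈ S.comap π := hz
    rw [he] at hx
    exact (hkπ x).2 hx
  by_cases hp : ∃ p : ℕ, p.Prime ∧ IsPGroup p (G ⧸ K)
  · obtain ⟨p, hp, hP⟩ := hp
    exact Or.inl ⟨K, hKn, p, hp, hP, hKG⟩
  push Not at hp
  obtain ⟨p, d, hpp, hcard, hpidx, hDab, hfree, hidxle⟩ :=
    ThreeDegrees.frobenius_facts hQna hQu hp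
  set D := commutator (G ⧸ K) with hD
  set L : Subgroup G := D.comap π with hL
  haveI hLn : L.Normal := (inferInstance : D.Normal).comap π
  have hKL : K ≤ L := fun x hx => by
    rw [hL, Subgroup.mem_comap, (hkπ x).2 hx]
    exact one_mem _
  have hLeq : L = commutator G ⊔ K := by
    rw [hL, ← hmapc, Subgroup.comap_map_eq, hπ, QuotientGroup.ker_mk']
  have hLidx : L.index = D.index := D.index_comap_of_surjective hsur
  have hLK : K.relIndex L = p ^ d := by
    rw [← hcard]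
    have h1 : π.ker.relIndex L = Nat.card (L.map π) := Subgroup.relIndex_ker (K := L) π
    rw [show π.ker = K from QuotientGroup.ker_mk' K] at h1
    rw [h1, hL, Subgroup.map_comap_eq_self_of_surjective hsur]
  have hone : 1 < L.index := by
    have h0 : L.index ≠ 0 := Subgroup.index_ne_zero_of_finite
    have h1 : L.index ≠ 1 := by
      rw [hLidx]
      intro e
      have htop := Subgroup.index_eq_one.1 e
      refine hQna ?_
      rw [hD, commutator_def, Subgroup.commutator_eq_bot_iff_le_centralizer]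
      exact fun x _ => Subgroup.mem_centralizer_iff.2 fun y _ =>
        hDab y (htop ▸ Subgroup.mem_top y) x (htop ▸ Subgroup.mem_top x)
    omega
  have hcomm : ∀ a ∈ L, ∀ b ∈ L, a * b * a⁻¹ * b⁻¹ ∈ K := fun a ha b hb => (hkπ _).1 (by
    simp only [map_mul, map_inv]
    rw [hDab _ (show π a ∈ D from ha) _ (show π b ∈ D from hb), mul_inv_cancel_right, mul_inv_cancel])
  have hmax : ∀ N : Subgroup G, N.Normal → K < N → commutator G ≤ N := fun N hN hKN => by
    by_contra hc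
    exact hKN.not_ge (hKmax ⟨hN, hc⟩ hKN.le)
  have hfree' : ∀ y ∉ L, ∀ v ∈ L, y * v * y⁻¹ * v⁻¹ ∈ K → v ∈ K := fun y hy v hv hc => by
    refine (hkπ v).1 (hfree (π y) (fun hm => hy hm) (π v) hv ?_)
    have h1 := (hkπ _).2 hc
    simp only [map_mul, map_inv] at h1
    exact (mul_inv_eq_iff_eq_mul.1 (mul_inv_eq_one.1 h1)).symm
  have hcyc : IsCyclic (G ⧸ L) := by
    obtain ⟨H, hH⟩ := Subgroup.exists_right_complement'_of_coprime (N := D) (by
      rw [hcard]
      exact ((hpp.coprime_iff_not_dvd.2 hpidx).pow_left d))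
    have hHab : IsMulCommutative H := ⟨⟨fun a b => by
      have hcH : ⁅(a : G ⧸ K), (b : G ⧸ K)⁆ ∈ H := by
        rw [commutatorElement_def]
        exact mul_mem (mul_mem (mul_mem a.2 b.2) (inv_mem a.2)) (inv_mem b.2)
      have hc : ⁅(a : G ⧸ K), (b : G ⧸ K)⁆ ∈ D ⊓ H :=
        ⟨Subgroup.commutator_mem_commutator (Subgroup.mem_top _) (Subgroup.mem_top _), hcH⟩
      rw [hH.isCompl.inf_eq_bot, Subgroup.mem_bot, commutatorElement_eq_one_iff_mul_comm] at hc
      exact Subtype.ext hc⟩⟩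
    have hfpf : Coprime.IsFpfOn H D := fun a ha ha1 => by
      refine (Subgroup.eq_bot_iff_forall _).2 fun v hv => ?_
      refine hfree a (fun haD => ha1 ?_) v hv.1 (Subgroup.mem_centralizer_singleton_iff.1 hv.2)
      exact Subgroup.mem_bot.1 (hH.isCompl.inf_eq_bot ▸ (⟨haD, ha⟩ : a ∈ D ⊓ H))
    haveI : IsCyclic H := hfpf.isCyclic (fun h _ => by
      rw [(Subgroup.normalizer_eq_top_iff).2 (inferInstance : D.Normal)]
      exact Subgroup.mem_top h) hQna
    let f : G ⧸ K →* G ⧸ L := QuotientGroup.map K L (MonoidHom.id G) hKL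
    refine isCyclic_of_surjective (f.comp H.subtype) fun x => ?_
    obtain ⟨g, rfl⟩ := QuotientGroup.mk_surjective x
    obtain ⟨⟨⟨v, hv⟩, ⟨h, hh⟩⟩, hvh⟩ := hH.2 (π g)
    refine ⟨⟨h, hh⟩, ?_⟩
    obtain ⟨x, rfl⟩ := hsur h
    obtain ⟨z, hz⟩ := hsur v
    show (x : G ⧸ L) = (g : G ⧸ L)
    rw [QuotientGroup.eq]
    have h1 : x⁻¹ * g ∈ L := by
      show π (x⁻¹ * g) ∈ D
      have h2 : π g = v * π x := hvh.symm
      rw [map_mul, map_inv, h2, ← mul_assoc]
      have := (inferInstance : D.Normal).conj_mem v hv (π x)⁻¹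
      rwa [inv_inv] at this
    exact h1
  have hdeg : ∀ [Fintype G] (ψ : IrrCharacter L), ¬ p ∣ charDegree (ψ : L → ℂ) →
      L.index * charDegree (ψ : L → ℂ) ∈ charDegrees G := by
    intro _ ψ hψ
    obtain ⟨χ, hχ⟩ := ThreeDegrees.exists_degree_mul_index L (K.subgroupOf L)
      (fun a b => Subgroup.mem_subgroupOf.2 (hcomm a a.2 b b.2))
      (fun y hy f hfK hfy => free_hom hKn hfree' y hy f hfK hfy)
      (fun y k hk => Subgroup.mem_subgroupOf.2 (by
        rw [MulAut.conjNormal_apply]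
        exact hKn.conj_mem _ (Subgroup.mem_subgroupOf.1 hk) y))
      (by
        show L.index ≤ K.relIndex L
        rw [hLK, hLidx, ← hcard]
        exact hidxle)
      ψ (by
        show (charDegree (ψ : L → ℂ)).Coprime (K.relIndex L)
        rw [hLK]
        exact ((hpp.coprime_iff_not_dvd.2 hψ).symm).pow_right d)
    exact ⟨χ, hχ⟩
  exact Or.inr ⟨K, L, p, hKn, hLn, hpp, hLeq, hKL, hKG, hone, ⟨d, hLK⟩,
    hLidx ▸ hpidx, hcyc, hcomm, hmax, hfree', hdeg⟩

end CfsgLib.Char.NoDiv
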