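import Cfsg.Agent.Lib.Char.NoDiv.Twist

/-!
# Counting the characters fixed by the automorphism
-/

set_option autoImplicit false
set_option linter.unusedSectionVars false

namespace CfsgLib.Char.NoDiv

open Cfsg CfsgLib CfsgLib.Char
open scoped ComplexConjugate

universe u

variable {F : Type u} [Group F]

/-- The linear characters of exponent `q`. -/
def qOne (M : Subgroup F) (q : ℕ) : Subgroup (M →* ℂˣ) where
  carrier := {f | f ^ q = 1}
  one_mem' := hom_one_pow q
  mul_mem' := fun {a b} ha hb => by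
    rw [Set.mem_setOf_eq] at ha hb ⊢
    refine MonoidHom.ext fun x => ?_
    have h1 := DFunLike.congr_fun ha x
    have h2 := DFunLike.congr_fun hb x
    rw [MonoidHom.pow_apply, MonoidHom.one_apply] at h1 h2
    rw [MonoidHom.pow_apply, MonoidHom.mul_apply, mul_pow, h1, h2, one_mul, MonoidHom.one_apply]
  inv_mem' := fun {a} ha => by
    rw [Set.mem_setOf_eq] at ha ⊢
    refine MonoidHom.ext fun x => ?_
    have h1 := DFunLike.congr_fun ha x
    rw [MonoidHom.pow_apply, MonoidHom.one_apply] at h1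
    rw [MonoidHom.pow_apply, MonoidHom.inv_apply, inv_pow, h1, inv_one, MonoidHom.one_apply]

theorem mem_qOne {M : Subgroup F} {q : ℕ} {f : M →* ℂˣ} : f ∈ qOne M q ↔ f ^ q = 1 := Iff.rfl

/-- The automorphisms preserving a subgroup. -/
def stabAut (M : Subgroup F) : Subgroup (MulAut F) where
  carrier := {β | ∀ x, β x ∈ M ↔ x ∈ M}
  one_mem' := fun x => Iff.rfl
  mul_mem' := fun {a b} ha hb x => (ha (b x)).trans (hb x)
  inv_mem' := fun {a} ha x => by
    have h := ha (a⁻¹ x)
    rw [← MulAut.mul_apply, mul_inv_cancel, MulAut.one_apply] at h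
    exact h.symm

/-- The induced automorphism of the quotient. -/
def quotAut (L : Subgroup F) [L.Normal] : stabAut L →* MulAut (F ⧸ L) where
  toFun β := QuotientGroup.congr L L (β : MulAut F) (by
    ext x
    simp only [Subgroup.mem_map, MonoidHom.coe_coe]
    refine ⟨?_, fun hx => ⟨(β : MulAut F).symm x, (β.2 _).1 (by simpa using hx), by simp⟩⟩
    rintro ⟨y, hy, rfl⟩
    exact (β.2 y).2 hy)
  map_one' := MulEquiv.ext fun x => by
    obtain ⟨g, rfl⟩ := QuotientGroup.mk_surjective x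
    rfl
  map_mul' a b := MulEquiv.ext fun x => by
    obtain ⟨g, rfl⟩ := QuotientGroup.mk_surjective x
    rfl

theorem natCard_ne {X : Type*} [Finite X] (a : X) : Nat.card {z : X // z ≠ a} = Nat.card X - 1 := by
  classical
  have := Fintype.ofFinite X
  rw [Nat.card_eq_fintype_card, Nat.card_eq_fintype_card, Fintype.card_subtype_compl,
    Fintype.card_subtype_eq]

theorem quotAut_mk (L : Subgroup F) [L.Normal] (β : stabAut L) (g : F) :
    quotAut L β (g : F ⧸ L) = ((β : MulAut F) g : F ⧸ L) := rfl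

namespace Ctx

variable [Fintype F] {α : MulAut F} {E R L : Subgroup F} {q : ℕ}

/-- The element of `stabAut L` given by `α`. -/
def autL (c : Ctx α E R L q) : stabAut L := ⟨α, c.fixL⟩

theorem quotAut_fixed_iff (c : Ctx α E R L q) [L.Normal] (g : F) :
    quotAut L c.autL (g : F ⧸ L) = (g : F ⧸ L) ↔ α g * g⁻¹ ∈ L := by
  rw [quotAut_mk, eq_comm, QuotientGroup.eq]
  show g⁻¹ * α g ∈ L ↔ _
  constructor
  · intro h
    have := c.fq.normalL.conj_mem _ h g
    simpa [mul_assoc] using this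
  · intro h
    have := c.fq.normalL.conj_mem _ h g⁻¹
    simpa [mul_assoc] using this

/-- The fixed subgroup of the quotient has index greater than one. -/
theorem exists_fixed_index (c : Ctx α E R L q) [L.Normal] :
    ∃ e, 1 < e ∧ L.index = Nat.card {γ : F ⧸ L // quotAut L c.autL γ = γ} * e := by
  classical
  let K : Subgroup (F ⧸ L) := MonoidHom.eqLocus (quotAut L c.autL).toMonoidHom (MonoidHom.id _)
  refine ⟨K.index, ?_, ?_⟩
  · have h0 : K.index ≠ 0 := Subgroup.index_ne_zero_of_finite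
    have h1 : K.index ≠ 1 := fun h => by
      obtain ⟨x, hx⟩ := c.exists_moves
      have hm : (x : F ⧸ L) ∈ K := Subgroup.index_eq_one.1 h ▸ Subgroup.mem_top _
      exact hx ((c.quotAut_fixed_iff x).1 hm)
    omega
  · rw [Subgroup.index_eq_card L, ← K.card_mul_index]
    congr 1

/-- An invariant nonlinear character over a linear character makes its image a conjugate. -/
theorem exists_conj (c : Ctx α E R L q) (M : Subgroup F) [M.Normal] [Fintype M] (β : MulAut F)
    (hβ : β ∈ Subgroup.zpowers α) (hβM : ∀ x, β x ∈ M ↔ x ∈ M) (lam : M →* ℂˣ) (χ : IrrCharacter F)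
    (hχ : charDegree (χ : F → ℂ) ≠ 1)
    (h : classInner (fun n : M => (χ : F → ℂ) n) (fun n : M => (lam n : ℂ)) ≠ 0) :
    ∃ g, cj M g lam = lam.comp (restr β M hβM).toMonoidHom := by
  classical
  have hinv : ∀ x, (χ : F → ℂ) (β x) = (χ : F → ℂ) x := by
    obtain ⟨k, rfl⟩ := (isOfFinOrder_of_finite α).mem_powers_iff_mem_zpowers.2 hβ
    intro x
    simp only
    clear hβ hβM
    induction k generalizing x with
    | zero => rfl
    | succ k ih => rw [pow_succ, MulAut.mul_apply, ih, c.hyp.inv χ hχ]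
  by_contra hno
  push Not at hno
  set lam' := lam.comp (restr β M hβM).toMonoidHom
  have h0 := classInner_restrict_zero M χ.2 (isIrrCharacter_lin lam) (isIrrCharacter_lin lam') h
    fun g hg => hno g (MonoidHom.ext fun x => Units.ext (congrFun hg x))
  refine h ?_
  rw [← h0, ← classInner_equiv (restr β M hβM) (fun n : M => (χ : F → ℂ) n) (fun n : M => (lam n : ℂ))]
  exact congrArg₂ classInner (funext fun n => hinv n) rfl

/-- The number of characters fixed by `α`. -/
theorem fixed_count (c : Ctx α E R L q) [L.Normal] (M : Subgroup F) [M.Normal]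
    (hM : ∀ x, α x ∈ M ↔ x ∈ M) (X : Subgroup (M →* ℂˣ)) [Finite X]
    (hcj : ∀ g, ∀ x ∈ X, cj M g x ∈ X)
    (hαX : ∀ (β : MulAut F), β ∈ Subgroup.zpowers α → ∀ (hβ : ∀ x, β x ∈ M ↔ x ∈ M), ∀ x ∈ X, x.comp (restr β M hβ).toMonoidHom ∈ X)
    (htriv : ∀ l ∈ L, ∀ x ∈ X, cj M l x = x)
    (hfree : ∀ x ∈ X, x ≠ 1 → ∀ g, cj M g x = x → α g * g⁻¹ ∈ L)
    (horb : ∀ x ∈ X, x ≠ 1 → ∀ (β : MulAut F) (hβ : ∀ y, β y ∈ M ↔ y ∈ M), β ∈ Subgroup.zpowers α →
      ∃ g, cj M g x = x.comp (restr β M hβ).toMonoidHom) :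
    L.index * (Nat.card {x : X // (x : M →* ℂˣ).comp (restr α M hM).toMonoidHom = x} - 1) =
      Nat.card {γ : F ⧸ L // quotAut L c.autL γ = γ} * (Nat.card X - 1) := by
  classical
  letI : CommGroup (F ⧸ L) :=
    { (inferInstance : Group (F ⧸ L)) with
      mul_comm := fun x y => by
        obtain ⟨a, rfl⟩ := QuotientGroup.mk_surjective x
        obtain ⟨b, rfl⟩ := QuotientGroup.mk_surjective y
        rw [← QuotientGroup.mk_mul, ← QuotientGroup.mk_mul, QuotientGroup.eq]
        have := c.comm_mem b⁻¹ a⁻¹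
        simpa [mul_assoc] using this }
  let Y := {x : X // x ≠ 1}
  have hout : ∀ (g : F) (x : X), cj M (g : F ⧸ L).out⁻¹ (x : M →* ℂˣ) = cj M g⁻¹ x := fun g x => by
    refine cj_congr M (fun l hl => htriv l hl x x.2) ?_
    have h1 : g * ((g : F ⧸ L).out)⁻¹ ∈ L := by
      have h2 := QuotientGroup.eq.1 (QuotientGroup.out_eq' (g : F ⧸ L))
      have := c.fq.normalL.conj_mem _ h2 (g : F ⧸ L).out
      rwa [← mul_assoc ((g : F ⧸ L).out), mul_inv_cancel, one_mul] at this
    have := c.fq.normalL.conj_mem _ (inv_mem h1) 1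
    simpa [mul_assoc] using this
  have hne : ∀ (g : F) (y : Y), (⟨cj M g (y.1 : M →* ℂˣ), hcj g _ y.1.2⟩ : X) ≠ 1 := fun g y e =>
    y.2 (Subtype.ext (cj_injective M g ((congrArg Subtype.val e).trans (map_one _).symm)))
  letI act : MulAction (F ⧸ L) Y :=
    { smul := fun γ y => ⟨⟨cj M γ.out⁻¹ (y.1 : M →* ℂˣ), hcj _ _ y.1.2⟩, hne _ y⟩
      one_smul := fun y => Subtype.ext (Subtype.ext (by
        show cj M ((1 : F) : F ⧸ L).out⁻¹ (y.1 : M →* ℂˣ) = y.1
        rw [hout, inv_one, cj_one]))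
      mul_smul := fun a b y => Subtype.ext (Subtype.ext (by
        obtain ⟨g, rfl⟩ := QuotientGroup.mk_surjective a
        obtain ⟨h, rfl⟩ := QuotientGroup.mk_surjective b
        show cj M ((g * h : F) : F ⧸ L).out⁻¹ (y.1 : M →* ℂˣ) =
          cj M (g : F ⧸ L).out⁻¹ (cj M (h : F ⧸ L).out⁻¹ (y.1 : M →* ℂˣ))
        rw [hout (g * h) y.1, hout h y.1, hout g ⟨_, hcj _ _ y.1.2⟩, mul_inv_rev, cj_mul])) }
  have hsmul : ∀ (g : F) (y : Y), (((g : F ⧸ L) • y : Y).1 : M →* ℂˣ) = cj M g⁻¹ y.1 := fun g y =>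
    hout g y.1
  -- the powers of `α`
  have hAL : ∀ a : Subgroup.zpowers α, (a : MulAut F) ∈ stabAut L := fun a =>
    (Subgroup.zpowers_le.2 c.autL.2) a.2
  have hAM : ∀ a : Subgroup.zpowers α, (a : MulAut F)⁻¹ ∈ stabAut M := fun a =>
    inv_mem ((Subgroup.zpowers_le.2 (show α ∈ stabAut M from hM)) a.2)
  let φA : Subgroup.zpowers α →* MulAut (F ⧸ L) :=
    (quotAut L).comp ((Subgroup.zpowers α).subtype.codRestrict (stabAut L) hAL)
  let actA : Subgroup.zpowers α → Y → Y := fun a y =>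
    ⟨⟨(y.1 : M →* ℂˣ).comp (restr (a : MulAut F)⁻¹ M (hAM a)).toMonoidHom, hαX _ (inv_mem a.2) _ _ y.1.2⟩,
      fun e => y.2 (Subtype.ext (MonoidHom.ext fun m => by
        obtain ⟨m', rfl⟩ := (restr (a : MulAut F)⁻¹ M (hAM a)).surjective m
        exact DFunLike.congr_fun (congrArg Subtype.val e) m'))⟩
  have hactA : ∀ (a : Subgroup.zpowers α) (y : Y) (m : M),
      ((actA a y).1 : M →* ℂˣ) m = (y.1 : M →* ℂˣ) ⟨(a : MulAut F)⁻¹ m, ((hAM a) m).2 m.2⟩ :=
    fun a y m => rfl
  let a₀ : Subgroup.zpowers α := ⟨α, Subgroup.mem_zpowers α⟩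
  have hfin := isOfFinOrder_of_finite α
  have h := card_fixed (Γ := F ⧸ L) (Y := Y) φA actA a₀
    (fun a => by
      obtain ⟨k, hk⟩ := hfin.mem_powers_iff_mem_zpowers.2 a.2
      exact ⟨k, Subtype.ext (by simpa using hk.symm)⟩)
    (fun y => Subtype.ext (Subtype.ext (MonoidHom.ext fun m => by
      rw [hactA]
      exact congrArg (y.1 : M →* ℂˣ) (Subtype.ext (by simp)))))
    (fun a b y => Subtype.ext (Subtype.ext (MonoidHom.ext fun m => by
      rw [hactA, hactA, hactA]
      exact congrArg (y.1 : M →* ℂˣ) (Subtype.ext (by simp [mul_inv_rev])))))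
    (fun a γ y => Subtype.ext (Subtype.ext (MonoidHom.ext fun m => by
      obtain ⟨g, rfl⟩ := QuotientGroup.mk_surjective γ
      rw [show φA a (g : F ⧸ L) = (((a : MulAut F) g : F) : F ⧸ L) from rfl, hsmul, hactA, hsmul,
        cj_apply, cj_apply, hactA]
      exact congrArg (y.1 : M →* ℂˣ) (Subtype.ext (by simp)))))
    (by
      rw [← Subgroup.index_eq_card, Nat.card_zpowers]
      exact (c.hyp.coprime _ c.index_mem).symm)
    (fun γ y hγ => by
      obtain ⟨g, rfl⟩ := QuotientGroup.mk_surjective γ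
      have h1 : cj M g⁻¹ (y.1 : M →* ℂˣ) = y.1 := by rw [← hsmul, hγ]
      have h2 : cj M g (y.1 : M →* ℂˣ) = y.1 := by
        conv_lhs => rw [← h1]
        rw [← cj_mul, inv_mul_cancel, cj_one]
      exact (c.quotAut_fixed_iff g).2 (hfree _ y.1.2 (fun e => y.2 (Subtype.ext e)) g h2))
    (fun y => by
      obtain ⟨g, hg⟩ := horb _ y.1.2 (fun e => y.2 (Subtype.ext e)) α⁻¹ (hAM a₀)
        (inv_mem (Subgroup.mem_zpowers α))
      refine ⟨((g⁻¹ : F) : F ⧸ L), Subtype.ext (Subtype.ext ?_)⟩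
      rw [hsmul, inv_inv, hg])
  rw [← Subgroup.index_eq_card] at h
  have hY : Nat.card Y = Nat.card X - 1 := natCard_ne (1 : X)
  have hfix : Nat.card {y : Y // actA a₀ y = y} =
      Nat.card {x : X // (x : M →* ℂˣ).comp (restr α M hM).toMonoidHom = x} - 1 := by
    let X' := {x : X // (x : M →* ℂˣ).comp (restr α M hM).toMonoidHom = x}
    have h1 : (⟨1, MonoidHom.ext fun _ => rfl⟩ : X').1 = (1 : X) := rfl
    rw [← natCard_ne (⟨1, MonoidHom.ext fun _ => rfl⟩ : X')]
    refine Nat.card_congr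
      { toFun := fun y => ⟨⟨y.1.1, ?_⟩, fun e => y.1.2 ((congrArg Subtype.val e).trans h1)⟩
        invFun := fun z => ⟨⟨z.1.1, fun e => z.2 (Subtype.ext (e.trans h1.symm))⟩, ?_⟩
        left_inv := fun y => rfl
        right_inv := fun z => rfl }
    · refine MonoidHom.ext fun m => ?_
      have h2 := DFunLike.congr_fun (congrArg (fun z : Y => (z.1 : M →* ℂˣ)) y.2)
        (restr α M hM m)
      rw [hactA] at h2
      refine h2.symm.trans (congrArg (y.1.1 : M →* ℂˣ) (Subtype.ext ?_))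
      exact MulEquiv.symm_apply_apply α (m : F)
    · refine Subtype.ext (Subtype.ext (MonoidHom.ext fun m => ?_))
      rw [hactA]
      have h2 := DFunLike.congr_fun z.1.2 ⟨α⁻¹ (m : F), ((hAM a₀) m).2 m.2⟩
      refine h2.symm.trans (congrArg (z.1.1 : M →* ℂˣ) (Subtype.ext ?_))
      exact MulEquiv.apply_symm_apply α (m : F)
  rw [hY, hfix] at h
  exact h

end Ctx

end CfsgLib.Char.NoDiv
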