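import Cfsg.Agent.Lib.Char.NoDiv.Lin
import Cfsg.Agent.Lib.Char.NoDiv.MinQuotient
import Cfsg.Agent.Lib.Char.NilMonomial

/-!
# A coprime automorphism fixing all nonlinear characters: the Frobenius quotient
-/

set_option autoImplicit false
set_option linter.unusedSectionVars false

namespace CfsgLib.Char.NoDiv

open Cfsg CfsgLib CfsgLib.Char
open scoped ComplexConjugate commutatorElement

universe u

variable {F : Type u} [Group F]

/-- The restriction of an automorphism to an invariant subgroup. -/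
def restr (α : F ≃* F) (M : Subgroup F) (hM : ∀ x, α x ∈ M ↔ x ∈ M) : M ≃* M where
  toFun x := ⟨α x, (hM x).2 x.2⟩
  invFun x := ⟨α.symm x, (hM _).1 (by simp)⟩
  left_inv x := Subtype.ext (α.symm_apply_apply (x : F))
  right_inv x := Subtype.ext (α.apply_symm_apply (x : F))
  map_mul' x y := Subtype.ext (map_mul α (x : F) (y : F))

theorem restr_apply (α : F ≃* F) (M : Subgroup F) (hM : ∀ x, α x ∈ M ↔ x ∈ M) (x : M) :
    ((restr α M hM x : M) : F) = α x := rfl

/-- `α` has order prime to all degrees, fixes the nonlinear characters and moves everything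
outside a normal subgroup `E` over the derived group. -/
structure Hyp (α : MulAut F) (E : Subgroup F) : Prop where
  nd : NoDvd F
  inv : ∀ χ : IrrCharacter F, charDegree (χ : F → ℂ) ≠ 1 → ∀ x, (χ : F → ℂ) (α x) = (χ : F → ℂ) x
  derived_le : commutator F ≤ E
  fixE : ∀ x, α x ∈ E ↔ x ∈ E
  moves : ∀ x ∉ E, α x * x⁻¹ ∉ E
  ne_top : E ≠ ⊤
  coprime : ∀ d ∈ charDegrees F, (orderOf α).Coprime d

section Cyclic

variable [Fintype F] (L : Subgroup F) [L.Normal] [Fintype L]

/-- Over a character of a normal subgroup with cyclic quotient. -/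
theorem exists_over_cyclic (hc : IsCyclic (F ⧸ L)) (φ : IrrCharacter L) :
    ∃ χ : IrrCharacter F, charDegree (χ : F → ℂ) =
        (inertia L (φ : L → ℂ)).index * charDegree (φ : L → ℂ) ∧
      classInner (fun n : L => (χ : F → ℂ) n) (φ : L → ℂ) = 1 := by
  classical
  have hLT := le_inertia_irr L φ
  have := Fintype.ofFinite (inertia L (φ : L → ℂ))
  obtain ⟨ψ, hψ⟩ := exists_ext_of_cyclic L φ hc rfl hLT
  obtain ⟨-, χ, -, h1, h2⟩ := ind_of_ext L φ rfl hLT ψ hψ
  exact ⟨χ, h1, h2⟩

/-- A linear character as an irreducible character. -/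
noncomputable def homChar {M : Type u} [Group M] (f : M →* ℂˣ) : IrrCharacter M :=
  ⟨fun x => (f x : ℂ), isIrrCharacter_lin f⟩

theorem charDegree_homChar {M : Type u} [Group M] [Finite M] (f : M →* ℂˣ) :
    charDegree (homChar f : M → ℂ) = 1 := by
  rw [degree_eq_iff, Nat.cast_one]
  show ((f 1 : ℂˣ) : ℂ) = 1
  rw [map_one, Units.val_one]

theorem cj_eq_comp (y : F) (f : L →* ℂˣ) :
    f.comp (MulAut.conjNormal y : L ≃* L).toMonoidHom = cj L y f := by
  refine MonoidHom.ext fun x => ?_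
  rw [cj_apply, MonoidHom.comp_apply, MulEquiv.coe_toMonoidHom]
  exact congrArg f (Subtype.ext (MulAut.conjNormal_apply y x))

end Cyclic

/-- The Frobenius quotient is invariant and lies below `E`. -/
structure Ctx (α : MulAut F) (E R L : Subgroup F) (q : ℕ) : Prop where
  hyp : Hyp α E
  fq : FrobQuot R L q
  fixR : ∀ x, α x ∈ R ↔ x ∈ R
  fixL : ∀ x, α x ∈ L ↔ x ∈ L
  le : L ≤ E

theorem iff_of_imp [Finite F] (α : MulAut F) (S : Subgroup F) (h : ∀ x ∈ S, α x ∈ S) (x : F) :
    α x ∈ S ↔ x ∈ S := by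
  refine ⟨fun hx => ?_, h x⟩
  let f : S → S := fun s => ⟨α s, h s s.2⟩
  have hf : Function.Injective f := fun a b e =>
    Subtype.ext (α.injective (congrArg Subtype.val e))
  obtain ⟨s, hs⟩ := (Finite.injective_iff_surjective.1 hf) ⟨α x, hx⟩
  exact α.injective (congrArg Subtype.val hs) ▸ s.2

theorem exists_ctx [Fintype F] {α : MulAut F} {E R L : Subgroup F} {q : ℕ} (h : Hyp α E)
    (fq : FrobQuot R L q) : Ctx α E R L q := by
  classical
  haveI := fq.normalL
  haveI := fq.normalK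
  have := Fintype.ofFinite L
  obtain ⟨d, hd⟩ := fq.relIndex_pow
  -- a linear character of `L` moved by everything outside
  obtain ⟨θ, hθK, hθ1⟩ : ∃ θ : L →* ℂˣ, θ ∈ linearOver (R.subgroupOf L) ∧ θ ≠ 1 := by
    have hc : Nat.card (linearOver (R.subgroupOf L)) = R.relIndex L :=
      card_linearOver (R.subgroupOf L) fun a b => Subgroup.mem_subgroupOf.2 (fq.comm_mem a a.2 b b.2)
    by_contra hall
    push Not at hall
    refine fq.not_le (le_trans ?_ (Subgroup.relIndex_eq_one.1 (hc.symm.trans ?_)))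
    · rw [fq.eq_sup]; exact le_sup_left
    · have : Subsingleton (linearOver (R.subgroupOf L)) :=
        ⟨fun a b => Subtype.ext ((hall a a.2).trans (hall b b.2).symm)⟩
      exact Nat.card_of_subsingleton 1
  have hT : inertia L (homChar θ : L → ℂ) = L := by
    refine le_antisymm (fun g hg => ?_) (le_inertia_irr L (homChar θ))
    by_contra hgL
    refine hθ1 (free_hom fq.normalK fq.free g hgL θ (fun k hk => hθK k hk) ?_)
    rw [cj_eq_comp]
    exact (mem_inertia_hom L θ g).1 hg
  obtain ⟨χ, hχd, hχi⟩ := exists_over_cyclic L fq.cyclic (homChar θ)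
  rw [hT, charDegree_homChar, mul_one] at hχd
  have hχ1 : charDegree (χ : F → ℂ) ≠ 1 := by
    rw [hχd]
    exact fq.one_lt.ne'
  have hR : ∀ x ∈ R, (χ : F → ℂ) x = (χ : F → ℂ) 1 := by
    intro x hx
    have h1 := congrFun (clifford_smul L χ.2 (homChar θ).2 (by rw [hχi]; exact one_ne_zero)) ⟨x, fq.le hx⟩
    simp only [Pi.smul_apply, smul_eq_mul] at h1
    rw [hT, hχi, one_mul,
      show indFun L (homChar θ : L → ℂ) x = _ from indFun_normal_mem L _ ⟨x, fq.le hx⟩] at h1
    have hone : ∀ g : F, (homChar θ : L → ℂ) ⟨g * (⟨x, fq.le hx⟩ : L) * g⁻¹,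
        fq.normalL.conj_mem _ (fq.le hx) g⟩ = 1 := fun g => by
      show ((θ _ : ℂˣ) : ℂ) = 1
      rw [hθK _ (Subgroup.mem_subgroupOf.2 (fq.normalK.conj_mem x hx g)), Units.val_one]
    rw [Finset.sum_congr rfl fun g _ => hone g, Finset.sum_const, Finset.card_univ, nsmul_eq_mul, mul_one,
      ← Nat.card_eq_fintype_card, ← L.card_mul_index, Nat.cast_mul] at h1
    rw [Block.ItoMichler.one_eq_cast χ, hχd]
    have hL : (Nat.card L : ℂ) ≠ 0 := by exact_mod_cast Nat.card_pos.ne'
    apply mul_left_cancel₀ hL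
    rw [h1, ← mul_assoc (Nat.card L : ℂ)⁻¹, inv_mul_cancel₀ hL, one_mul]
  -- the kernel of the character is `R`
  obtain ⟨m, ρ, hρ, hρc⟩ := id χ.2
  have hm : charDegree (χ : F → ℂ) = m := by
    rw [degree_eq_iff, ← hρc, Representation.char_one, Module.finrank_fin_fun]
  have hker : ∀ x, x ∈ MonoidHom.ker ρ ↔ (χ : F → ℂ) x = (χ : F → ℂ) 1 := by
    intro x
    rw [MonoidHom.mem_ker, ← hρc, Representation.char_one, char_eq_degree_iff]
    rfl
  have hKR : MonoidHom.ker ρ = R := by
    have hle : R ≤ MonoidHom.ker ρ := fun x hx => (hker x).2 (hR x hx)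
    by_contra hne
    have hc := fq.maximal _ inferInstance (lt_of_le_of_ne hle (Ne.symm hne))
    have := hρ
    have h1 : Module.finrank ℂ (Fin m → ℂ) = 1 := finrank_eq_one_of_comm ρ fun a b => by
      have hab : ρ ⁅a, b⁆ = 1 := MonoidHom.mem_ker.1 (hc (by
        rw [commutator_def]
        exact Subgroup.commutator_mem_commutator (Subgroup.mem_top a) (Subgroup.mem_top b)))
      rw [← map_mul, ← map_mul, show a * b = ⁅a, b⁆ * (b * a) by rw [commutatorElement_def]; group,
        map_mul, hab, one_mul]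
    rw [Module.finrank_fin_fun] at h1
    exact hχ1 (hm.trans h1)
  have hfixR : ∀ x, α x ∈ R ↔ x ∈ R := fun x => by
    rw [← hKR, hker, hker, h.inv χ hχ1 x]
  have hfixL : ∀ x, α x ∈ L ↔ x ∈ L := iff_of_imp α L fun x hx => by
    have h1 : (commutator F).map (α : F ≃* F).toMonoidHom ≤ L := by
      rw [fq.eq_sup, commutator_def, Subgroup.map_commutator]
      exact le_sup_of_le_left (Subgroup.commutator_mono le_top le_top)
    have h2 : R.map (α : F ≃* F).toMonoidHom ≤ L := by
      rintro _ ⟨y, hy, rfl⟩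
      exact fq.le ((hfixR y).2 hy)
    have h3 : L.map (α : F ≃* F).toMonoidHom ≤ L := by
      conv_lhs => rw [fq.eq_sup]
      rw [Subgroup.map_sup]
      exact sup_le h1 h2
    exact h3 ⟨x, hx, rfl⟩
  -- `R` lies below `E`
  have hRE : R ≤ E := by
    intro x hx
    by_contra hxE
    refine h.moves x hxE ?_
    have : E.Normal := ⟨fun n hn g => by
      have h1 : ⁅g, n⁆ ∈ E := h.derived_le (by
        rw [commutator_def]
        exact Subgroup.commutator_mem_commutator (Subgroup.mem_top g) (Subgroup.mem_top n))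
      have h2 := E.mul_mem h1 hn
      rwa [commutatorElement_def, inv_mul_cancel_right] at h2⟩
    have hab : ∀ a b : F, a * b * a⁻¹ * b⁻¹ ∈ E := fun a b => h.derived_le (by
      rw [commutator_def, ← commutatorElement_def]
      exact Subgroup.commutator_mem_commutator (Subgroup.mem_top a) (Subgroup.mem_top b))
    have := Fintype.ofFinite (linearOver E)
    by_contra hne
    have hsum := sum_linearOver E hab (α x * x⁻¹)
    rw [if_neg hne] at hsum
    have hall : ∀ f : linearOver E, ((f : F →* ℂˣ) (α x * x⁻¹) : ℂ) = 1 := by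
      intro f
      have hd' : charDegree (linMul (f : F →* ℂˣ) χ : F → ℂ) ≠ 1 := by
        have he : charDegree (linMul (f : F →* ℂˣ) χ : F → ℂ) = charDegree (χ : F → ℂ) := by
          rw [degree_eq_iff]
          show (((f : F →* ℂˣ) 1 : ℂˣ) : ℂ) * (χ : F → ℂ) 1 = _
          rw [map_one, Units.val_one, one_mul, Block.ItoMichler.one_eq_cast]
        rwa [he]
      have h1 := h.inv _ hd' x
      simp only [linMul] at h1
      rw [h.inv χ hχ1 x, hR x hx] at h1
      have h2 := mul_right_cancel₀ (irr_one_ne_zero χ) h1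
      rw [map_mul, map_inv, Units.val_mul, h2, Units.mul_inv]
    rw [Finset.sum_congr rfl fun f _ => hall f, Finset.sum_const, Finset.card_univ, nsmul_eq_mul,
      mul_one, Nat.cast_eq_zero] at hsum
    exact Fintype.card_ne_zero hsum
  refine ⟨h, fq, hfixR, hfixL, ?_⟩
  rw [fq.eq_sup]
  exact sup_le h.derived_le hRE

namespace Ctx

variable [Fintype F] {α : MulAut F} {E R L : Subgroup F} {q : ℕ}

theorem exists_moves (c : Ctx α E R L q) : ∃ x, α x * x⁻¹ ∉ L := by
  obtain ⟨x, hx⟩ : ∃ x, x ∉ E := by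
    by_contra hc
    push Not at hc
    exact c.hyp.ne_top ((Subgroup.eq_top_iff' E).2 hc)
  exact ⟨x, fun h => c.hyp.moves x hx (c.le h)⟩

theorem cyclic' (c : Ctx α E R L q) [L.Normal] : IsCyclic (F ⧸ L) := c.fq.cyclic

theorem index_mem (c : Ctx α E R L q) : L.index ∈ charDegrees F := by
  haveI := c.fq.normalL
  have h := c.fq.degree (⟨fun _ => 1, isIrrCharacter_one⟩ : IrrCharacter L) (by
    rw [show charDegree (fun _ : L => (1 : ℂ)) = 1 by simp [charDegree]]
    exact c.fq.prime.not_dvd_one)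
  rwa [show charDegree (fun _ : L => (1 : ℂ)) = 1 by simp [charDegree], mul_one] at h

theorem commutator_le (c : Ctx α E R L q) : commutator F ≤ L := by
  rw [c.fq.eq_sup]
  exact le_sup_left

theorem comm_mem (c : Ctx α E R L q) (a b : F) : a * b * a⁻¹ * b⁻¹ ∈ L := c.commutator_le (by
  rw [commutator_def, ← commutatorElement_def]
  exact Subgroup.commutator_mem_commutator (Subgroup.mem_top a) (Subgroup.mem_top b))

/-- The inertia group of a linear character of `L` is `L` or everything. -/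
theorem linear_stab (c : Ctx α E R L q) [L.Normal] [Fintype L] (μ : L →* ℂˣ) :
    inertia L (fun x => (μ x : ℂ)) = L ∨ inertia L (fun x => (μ x : ℂ)) = ⊤ := by
  obtain ⟨χ, hχ, -⟩ := exists_over_cyclic L c.fq.cyclic (homChar μ)
  rw [charDegree_homChar, mul_one] at hχ
  change charDegree (χ : F → ℂ) = (inertia L (fun x => (μ x : ℂ))).index at hχ
  set T := inertia L (fun x => (μ x : ℂ))
  have hLT : L ≤ T := le_inertia_irr L (homChar μ)
  by_cases h1 : T.index = 1
  · exact Or.inr (Subgroup.index_eq_one.1 h1)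
  left
  have hpos : T.index ≠ 0 := Subgroup.index_ne_zero_of_finite
  have he := c.hyp.nd.eq_of_dvd ⟨χ, hχ⟩ c.index_mem (by omega) (Subgroup.index_dvd_of_le hLT)
  refine le_antisymm ?_ hLT
  have h2 := Subgroup.relIndex_mul_index hLT
  rw [he, Nat.mul_eq_right Subgroup.index_ne_zero_of_finite] at h2
  exact Subgroup.relIndex_eq_one.1 h2

/-- A nonlinear character of `L` is fixed by something outside `L`. -/
theorem lt_inertia (c : Ctx α E R L q) [L.Normal] [Fintype L] (φ : IrrCharacter L)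
    (hφ : charDegree (φ : L → ℂ) ≠ 1) : L < inertia L (φ : L → ℂ) := by
  refine lt_of_le_of_ne (le_inertia_irr L φ) fun he => ?_
  obtain ⟨χ, hχ, -⟩ := exists_over_cyclic L c.fq.cyclic φ
  rw [← he] at hχ
  exact hφ (c.hyp.nd.eq_one_of_mul c.index_mem (hχ ▸ ⟨χ, rfl⟩) c.fq.one_lt)

/-- The stabilizer of a nonlinear character of `L` is centralized by `α` modulo `L`. -/
theorem centralized (c : Ctx α E R L q) [L.Normal] [Fintype L] (φ : IrrCharacter L)
    (hφ : charDegree (φ : L → ℂ) ≠ 1) {t : F} (ht : t ∈ inertia L (φ : L → ℂ)) :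
    α t * t⁻¹ ∈ L := by
  classical
  set T := inertia L (φ : L → ℂ) with hT
  have hLT : L ≤ T := le_inertia_irr L φ
  have := Fintype.ofFinite T
  have := Fintype.ofFinite (L.subgroupOf T)
  obtain ⟨φh, hφh⟩ := exists_ext_of_cyclic L φ c.fq.cyclic hT hLT
  obtain ⟨hφd, χ, hχ, hχd, hχi⟩ := ind_of_ext L φ hT hLT φh hφh
  have hdeg : T.index * charDegree (φ : L → ℂ) ≠ 1 := fun h => hφ (Nat.eq_one_of_mul_eq_one_left h)
  -- an element carrying `φ` to `φ ∘ α`
  set αL := restr α L c.fixL with hαL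
  let φα : IrrCharacter L := ⟨fun n => (φ : L → ℂ) (αL n),
    isIrrCharacter_comp_surjective φ.2 αL.toMonoidHom αL.surjective⟩
  obtain ⟨g, hg⟩ : ∃ g, conjFun L (φ : L → ℂ) g = (φα : L → ℂ) := by
    by_contra hno
    push Not at hno
    have h0 := classInner_restrict_zero L χ.2 φ.2 φα.2 (by rw [hχi]; exact one_ne_zero) hno
    have h1 : classInner (fun n : L => (χ : F → ℂ) n) (φα : L → ℂ) = 1 := by
      rw [← hχi, ← classInner_equiv αL (fun n : L => (χ : F → ℂ) n) (φ : L → ℂ)]
      refine congrArg (fun f => classInner f (φα : L → ℂ)) (funext fun n => ?_)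
      exact (c.hyp.inv χ (hχd ▸ hdeg) (n : F)).symm
    exact one_ne_zero (h1.symm.trans h0)
  -- `b` fixes `φ`
  set b : F ≃* F := (MulAut.conj g⁻¹ : F ≃* F).trans α with hb
  have hbx : ∀ x, b x = α (g⁻¹ * x * g) := fun x => by
    simp [hb, MulAut.conj_apply]
  have hbL : ∀ x, b x ∈ L ↔ x ∈ L := fun x => by
    rw [hbx, c.fixL]
    have := c.fq.normalL
    constructor
    · intro h
      have := this.conj_mem _ h g
      simpa [mul_assoc] using this
    · intro h
      have := this.conj_mem _ h g⁻¹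
      simpa [mul_assoc] using this
  have hbφ : ∀ n : L, (φ : L → ℂ) ⟨b n, (hbL n).2 n.2⟩ = (φ : L → ℂ) n := by
    intro n
    set m : L := ⟨g⁻¹ * n * g, by
      have := c.fq.normalL.conj_mem _ n.2 g⁻¹
      rwa [inv_inv] at this⟩
    have h1 := congrFun hg m
    have h2 : (⟨g * (m : F) * g⁻¹, c.fq.normalL.conj_mem _ m.2 g⟩ : L) = n := Subtype.ext (by
      show g * (g⁻¹ * n * g) * g⁻¹ = n
      group)
    have h3 : αL m = (⟨b n, (hbL n).2 n.2⟩ : L) := Subtype.ext (hbx n).symm
    calc (φ : L → ℂ) ⟨b n, (hbL n).2 n.2⟩ = (φα : L → ℂ) m := congrArg (φ : L → ℂ) h3.symm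
      _ = (φ : L → ℂ) ⟨g * (m : F) * g⁻¹, c.fq.normalL.conj_mem _ m.2 g⟩ := h1.symm
      _ = (φ : L → ℂ) n := by rw [h2]
  have hbT : ∀ x, b x ∈ T ↔ x ∈ T := iff_of_imp b T fun x hx => by
    rw [hT, mem_inertia] at hx ⊢
    funext n
    obtain ⟨n', hn'⟩ := (restr b L hbL).surjective n
    subst hn'
    have h1 : (⟨b x * ((restr b L hbL n' : L) : F) * (b x)⁻¹,
        c.fq.normalL.conj_mem _ (restr b L hbL n').2 (b x)⟩ : L) =
        ⟨b (x * n' * x⁻¹), (hbL _).2 (c.fq.normalL.conj_mem _ n'.2 x)⟩ := Subtype.ext (by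
      show b x * b n' * (b x)⁻¹ = b (x * n' * x⁻¹)
      simp)
    show (φ : L → ℂ) _ = _
    rw [h1]
    exact ((hbφ ⟨_, c.fq.normalL.conj_mem _ n'.2 x⟩).trans (congrFun hx n')).trans (hbφ n').symm
  -- every extension is fixed by `b`
  set bT := restr b T hbT with hbTdef
  have hfix : ∀ ν : T →* ℂˣ, (∀ l ∈ L.subgroupOf T, ν l = 1) →
      ∀ s : T, (ν (bT s) : ℂ) * (φh : T → ℂ) (bT s) = (ν s : ℂ) * (φh : T → ℂ) s := by
    intro ν hν
    let ψ : IrrCharacter T := linMul ν φh
    have hψ : ∀ n : L, (ψ : T → ℂ) (Subgroup.inclusion hLT n) = (φ : L → ℂ) n := fun n => by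
      show (ν _ : ℂ) * _ = _
      rw [hν _ (Subgroup.mem_subgroupOf.2 n.2), Units.val_one, one_mul, hφh]
    obtain ⟨hψd, χν, hχν, hχνd, -⟩ := ind_of_ext L φ hT hLT ψ hψ
    let ψb : IrrCharacter T := ⟨fun s => (ψ : T → ℂ) (bT s),
      isIrrCharacter_comp_surjective ψ.2 bT.toMonoidHom bT.surjective⟩
    have hψb : ∀ n : L, (ψb : T → ℂ) (Subgroup.inclusion hLT n) = (φ : L → ℂ) n := fun n => by
      show (ψ : T → ℂ) (bT (Subgroup.inclusion hLT n)) = _
      rw [show bT (Subgroup.inclusion hLT n) = Subgroup.inclusion hLT ⟨b n, (hbL n).2 n.2⟩ from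
        Subtype.ext rfl, hψ, hbφ]
    have hone : ∀ ψ' : IrrCharacter T, (∀ n : L, (ψ' : T → ℂ) (Subgroup.inclusion hLT n) = (φ : L → ℂ) n) →
        classInner (fun n : L => (ψ' : T → ℂ) (Subgroup.inclusion hLT n)) (φ : L → ℂ) ≠ 0 := fun ψ' h => by
      rw [show (fun n : L => (ψ' : T → ℂ) (Subgroup.inclusion hLT n)) = (φ : L → ℂ) from funext h,
        classInner_irr_self]
      exact one_ne_zero
    have heq : ψb = ψ := by
      refine eq_of_ind_eq L φ hT hLT ψb ψ (hone ψb hψb) (hone ψ hψ) (funext fun x => ?_)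
      rw [← hχν]
      have h1 := indFun_comp_aut T (ψ : T → ℂ) b hbT x
      rw [← hχν] at h1
      refine h1.symm.trans ?_
      rw [hbx, c.hyp.inv χν (hχνd ▸ hdeg)]
      have := isClassFunction_irr χν x g⁻¹
      rwa [inv_inv] at this
    exact fun s => congrFun (congrArg Subtype.val heq) s
  have h0 := hfix 1 (fun _ _ => rfl)
  simp only [MonoidHom.one_apply, Units.val_one, one_mul] at h0
  -- hence `b t ≡ t`
  have hres : IsIrrCharacter (L.subgroupOf T) (fun l => (φh : T → ℂ) l) := by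
    rw [show (fun x : L.subgroupOf T => (φh : T → ℂ) x) =
        fun x => (φ : L → ℂ) (Subgroup.subgroupOfEquivOfLe hLT x) from
      funext fun x => hφh (Subgroup.subgroupOfEquivOfLe hLT x)]
    exact isIrrCharacter_comp_surjective φ.2 (Subgroup.subgroupOfEquivOfLe hLT).toMonoidHom
      (Subgroup.subgroupOfEquivOfLe hLT).surjective
  set s0 : T := ⟨t, ht⟩
  have hbt : (bT s0 : F) * t⁻¹ ∈ L := by
    by_contra hne
    have := Fintype.ofFinite (linearOver (L.subgroupOf T))
    have hsum := sum_linearOver (L.subgroupOf T)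
      (fun a b => Subgroup.mem_subgroupOf.2 (c.comm_mem a b)) (bT s0 * s0⁻¹)
    rw [if_neg (fun h => hne (Subgroup.mem_subgroupOf.1 h))] at hsum
    have hall : ∀ ν : linearOver (L.subgroupOf T), ((ν : T →* ℂˣ) (bT s0 * s0⁻¹) : ℂ) = 1 := by
      intro ν
      have hkill : ∀ l ∈ L.subgroupOf T,
          (((ν : T →* ℂˣ).comp bT.toMonoidHom) * (ν : T →* ℂˣ)⁻¹) l = 1 := fun l hl => by
        rw [MonoidHom.mul_apply, MonoidHom.inv_apply, MonoidHom.comp_apply, MulEquiv.coe_toMonoidHom,
          ν.2 (bT l) (Subgroup.mem_subgroupOf.2 ((hbL _).2 (Subgroup.mem_subgroupOf.1 hl))),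
          ν.2 l hl, inv_one, mul_one]
      have h1 := DegComp.twist_eq_one (L.subgroupOf T) φh hres _ hkill (fun s => ?_) s0
      · rw [MonoidHom.mul_apply, MonoidHom.inv_apply, MonoidHom.comp_apply,
          MulEquiv.coe_toMonoidHom] at h1
        rw [map_mul, map_inv, h1, Units.val_one]
      · rw [MonoidHom.mul_apply, MonoidHom.inv_apply, MonoidHom.comp_apply, MulEquiv.coe_toMonoidHom]
        have h2 := hfix ν ν.2 s
        rw [h0 s] at h2
        rw [Units.val_mul, mul_right_comm, h2, mul_comm ((ν : T →* ℂˣ) s : ℂ), mul_assoc,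
          ← Units.val_mul, mul_inv_cancel, Units.val_one, mul_one]
    rw [Finset.sum_congr rfl fun f _ => hall f, Finset.sum_const, Finset.card_univ, nsmul_eq_mul,
      mul_one, Nat.cast_eq_zero] at hsum
    exact Fintype.card_ne_zero hsum
  have h2 : α (g⁻¹ * t * g) * t⁻¹ ∈ L := by
    have : (bT s0 : F) = b t := rfl
    rwa [this, hbx] at hbt
  have h3 : α t * (α (g⁻¹ * t * g))⁻¹ ∈ L := by
    rw [← map_inv, ← map_mul, c.fixL]
    have := c.comm_mem t g⁻¹
    simpa [mul_assoc] using this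
  have := mul_mem h3 h2
  rwa [show α t * (α (g⁻¹ * t * g))⁻¹ * (α (g⁻¹ * t * g) * t⁻¹) = α t * t⁻¹ by group] at this

end Ctx

end CfsgLib.Char.NoDiv
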