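import Cfsg.Agent.Lib.Char.NoDiv.Setup

/-!
# The moved linear characters fix every nonlinear character of the kernel
-/

set_option autoImplicit false
set_option linter.unusedSectionVars false

namespace CfsgLib.Char.NoDiv

open Cfsg CfsgLib CfsgLib.Char
open scoped ComplexConjugate

universe u

variable {F : Type u} [Group F]

/-- An element of order prime to `q`, generating a cyclic quotient of order prime to `q`. -/
theorem exists_gen_coprime [Finite F] {q : ℕ} (hq : q.Prime) (L S : Subgroup F) [L.Normal]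
    (hcyc : IsCyclic (F ⧸ L)) (hqn : ¬ q ∣ L.index) :
    ∃ t ∈ S, (orderOf t).Coprime q ∧ ∀ s ∈ S, ∃ j : ℕ, s⁻¹ * t ^ j ∈ L := by
  classical
  set π := QuotientGroup.mk' L
  obtain ⟨⟨z, hz⟩, hzg⟩ := (Subgroup.isCyclic (S.map π)).exists_generator
  obtain ⟨s0, hs0, rfl⟩ := hz
  obtain ⟨a, c, hc, hab⟩ := Nat.exists_eq_pow_mul_and_not_dvd (orderOf_pos s0).ne' q hq.ne_one
  refine ⟨s0 ^ q ^ a, pow_mem hs0 _, ?_, fun s hs => ?_⟩
  · rw [orderOf_pow' _ (pow_ne_zero a hq.ne_zero), hab, Nat.gcd_eq_right (Dvd.intro _ rfl),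
      Nat.mul_div_cancel_left _ (Nat.pow_pos hq.pos)]
    exact Nat.coprime_comm.1 (hq.coprime_iff_not_dvd.2 hc)
  have hcop : (q ^ a).Coprime (orderOf (π s0)) := Nat.Coprime.coprime_dvd_right
    (show orderOf (π s0) ∣ L.index by rw [Subgroup.index_eq_card]; exact orderOf_dvd_natCard _)
    ((hq.coprime_iff_not_dvd.2 hqn).pow_left a)
  obtain ⟨m, hm⟩ := exists_pow_eq_self_of_coprime hcop
  have hfin : IsOfFinOrder (⟨π s0, s0, hs0, rfl⟩ : S.map π) := isOfFinOrder_of_finite _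
  obtain ⟨i, hi⟩ := hfin.mem_powers_iff_mem_zpowers.2 (hzg ⟨π s, Subgroup.mem_map_of_mem π hs⟩)
  have hi' : π s0 ^ i = π s := congrArg Subtype.val hi
  refine ⟨m * i, QuotientGroup.eq.1 ?_⟩
  show π s = π ((s0 ^ q ^ a) ^ (m * i))
  rw [map_pow, map_pow, pow_mul (π s0 ^ q ^ a), hm, hi']

section Psi

variable (L : Subgroup F) (q : ℕ)

/-- Linear characters of `q`-power order. -/
def qLin : Subgroup (L →* ℂˣ) where
  carrier := {μ | ∃ k : ℕ, μ ^ q ^ k = 1}
  one_mem' := ⟨0, one_pow _⟩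
  mul_mem' := by
    rintro a b ⟨i, hi⟩ ⟨j, hj⟩
    refine ⟨i + j, MonoidHom.ext fun x => ?_⟩
    have h1 := DFunLike.congr_fun hi x
    have h2 := DFunLike.congr_fun hj x
    rw [MonoidHom.pow_apply, MonoidHom.one_apply] at h1 h2
    rw [MonoidHom.pow_apply, MonoidHom.mul_apply, MonoidHom.one_apply, mul_pow, pow_add, pow_mul, h1,
      one_pow, one_mul, mul_comm, pow_mul, h2, one_pow]
  inv_mem' := by
    rintro a ⟨i, hi⟩
    refine ⟨i, MonoidHom.ext fun x => ?_⟩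
    have h := DFunLike.congr_fun hi x
    rw [MonoidHom.pow_apply, MonoidHom.one_apply] at h
    rw [MonoidHom.pow_apply, MonoidHom.inv_apply, inv_pow, h, inv_one, MonoidHom.one_apply]

theorem mem_qLin {μ : L →* ℂˣ} : μ ∈ qLin L q ↔ ∃ k : ℕ, μ ^ q ^ k = 1 := Iff.rfl

variable [L.Normal] [Fintype (F ⧸ L)]

/-- Linear characters of `q`-power order and trivial norm. -/
noncomputable def psi : Subgroup (L →* ℂˣ) := qLin L q ⊓ (normMap L).ker

theorem mem_psi {μ : L →* ℂˣ} : μ ∈ psi L q ↔ (∃ k : ℕ, μ ^ q ^ k = 1) ∧ normMap L μ = 1 := Iff.rfl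

/-- The common kernel of the characters of trivial norm. -/
noncomputable def psiKer : Subgroup L := ⨅ μ ∈ psi L q, μ.ker

theorem mem_psiKer {x : L} : x ∈ psiKer L q ↔ ∀ μ ∈ psi L q, μ x = 1 := by
  simp [psiKer, Subgroup.mem_iInf, MonoidHom.mem_ker]

theorem cj_mem_psi {μ : L →* ℂˣ} (h : μ ∈ psi L q) (g : F) : cj L g μ ∈ psi L q := by
  obtain ⟨⟨k, hk⟩, hN⟩ := (mem_psi L q).1 h
  refine (mem_psi L q).2 ⟨⟨k, ?_⟩, by rw [normMap_cj, hN]⟩
  rw [← hom_map_pow, hk, map_one]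

theorem proj0_mem_psi {μ : L →* ℂˣ} (h : μ ∈ qLin L q) : proj0 L μ ∈ psi L q := by
  obtain ⟨k, hk⟩ := h
  refine (mem_psi L q).2 ⟨⟨k, ?_⟩, normMap_proj0 L μ⟩
  rw [← hom_map_pow, hk, map_one]

end Psi

namespace Ctx

variable [Fintype F] {α : MulAut F} {E R L : Subgroup F} {q : ℕ}
variable [L.Normal] [Fintype L] [Fintype (F ⧸ L)]

/-- Nontrivial characters of trivial norm are moved by everything outside `L`. -/
theorem psi_free (c : Ctx α E R L q) {μ : L →* ℂˣ} (hμ : μ ∈ psi L q) {g : F} (hg : g ∉ L)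
    (hfix : cj L g μ = μ) : μ = 1 := by
  rcases c.linear_stab μ with h | h
  · exact absurd (h ▸ (mem_inertia_hom L μ g).2 hfix) hg
  obtain ⟨⟨k, hk⟩, hN⟩ := (mem_psi L q).1 hμ
  rw [normMap_of_fixed L μ fun x => (mem_inertia_hom L μ x).1 (h ▸ Subgroup.mem_top x)] at hN
  exact hom_eq_one μ hk hN ((c.fq.prime.coprime_iff_not_dvd.2 c.fq.not_dvd).pow_left k)

/-- The characters of `L` over `R` have trivial norm. -/
theorem linearOver_le_psi (c : Ctx α E R L q) : linearOver (R.subgroupOf L) ≤ psi L q := by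
  intro μ hμ
  haveI := c.fq.normalK
  obtain ⟨d, hd⟩ := c.fq.relIndex_pow
  refine (mem_psi L q).2 ⟨⟨d, ?_⟩, ?_⟩
  · have h := pow_index_eq_one_of_trivial (R.subgroupOf L) μ fun k => hμ k k.2
    change μ ^ R.relIndex L = 1 at h
    rwa [hd] at h
  obtain ⟨y, hy⟩ : ∃ y, y ∉ L := by
    by_contra hc
    push Not at hc
    exact c.fq.one_lt.ne' (Subgroup.index_eq_one.2 ((Subgroup.eq_top_iff' L).2 hc))
  refine free_hom c.fq.normalK c.fq.free y hy (normMap L μ) (fun k hk => ?_) ?_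
  · rw [normMap_apply, MonoidHom.finset_prod_apply]
    refine Finset.prod_eq_one fun γ _ => ?_
    rw [cj_apply]
    exact hμ _ (Subgroup.mem_subgroupOf.2
      (c.fq.normalK.conj_mem _ (Subgroup.mem_subgroupOf.1 hk) _))
  · rw [cj_eq_comp, cj_normMap]

theorem exists_psi_ne_one (c : Ctx α E R L q) : ∃ μ ∈ psi L q, μ ≠ 1 := by
  haveI := c.fq.normalK
  by_contra hall
  push Not at hall
  have hc : Nat.card (linearOver (R.subgroupOf L)) = R.relIndex L :=
    card_linearOver (R.subgroupOf L) fun a b => Subgroup.mem_subgroupOf.2 (c.fq.comm_mem a a.2 b b.2)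
  have : Subsingleton (linearOver (R.subgroupOf L)) := ⟨fun a b => Subtype.ext
    ((hall a (c.linearOver_le_psi a.2)).trans (hall b (c.linearOver_le_psi b.2)).symm)⟩
  rw [Nat.card_of_subsingleton (1 : linearOver (R.subgroupOf L))] at hc
  refine c.fq.not_le (le_trans ?_ (Subgroup.relIndex_eq_one.1 hc.symm))
  rw [c.fq.eq_sup]
  exact le_sup_left

theorem isPGroup_psi (c : Ctx α E R L q) : IsPGroup q (psi L q) := fun μ => by
  obtain ⟨⟨k, hk⟩, -⟩ := (mem_psi L q).1 μ.2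
  exact ⟨k, Subtype.ext hk⟩

/-- The characters of trivial norm fix every nonlinear character of `L`. -/
theorem twist (c : Ctx α E R L q) (φ : IrrCharacter L) (hφ : charDegree (φ : L → ℂ) ≠ 1)
    {μ : L →* ℂˣ} (hμ : μ ∈ psi L q) : linMul μ φ = φ := by
  classical
  have hone : linMul 1 φ = φ := Subtype.ext (funext fun x => by simp [linMul])
  have hmulL : ∀ (a b : L →* ℂˣ) (ψ : IrrCharacter L), linMul (a * b) ψ = linMul a (linMul b ψ) :=
    fun a b ψ => Subtype.ext (funext fun x => by simp [linMul, mul_assoc])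
  let cc : F → IrrCharacter L → IrrCharacter L := fun g ψ =>
    ⟨conjFun L (ψ : L → ℂ) g, isIrrCharacter_conjFun L ψ.2 g⟩
  have hcc : ∀ g a ψ, cc g (linMul a ψ) = linMul (cj L g a) (cc g ψ) := fun g a ψ =>
    Subtype.ext (funext fun x => rfl)
  have hccm : ∀ g h ψ, cc (g * h) ψ = cc h (cc g ψ) := fun g h ψ => Subtype.ext (conjFun_mul L _ g h)
  have hcc1 : ∀ ψ, cc 1 ψ = ψ := fun ψ => Subtype.ext (conjFun_one L _)
  let InO : IrrCharacter L → Prop := fun ψ => ∃ ν ∈ psi L q, linMul ν φ = ψ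
  have hInO1 : InO φ := ⟨1, one_mem _, hone⟩
  -- the stabilizer of the coset
  let S : Subgroup F :=
    { carrier := {g | InO (cc g φ)}
      one_mem' := by rw [Set.mem_setOf_eq, hcc1]; exact hInO1
      mul_mem' := by
        rintro g h ⟨a, ha, ea⟩ ⟨b, hb, eb⟩
        refine ⟨cj L h a * b, mul_mem (cj_mem_psi L q ha h) hb, ?_⟩
        rw [hmulL, eb, ← hcc, ea, hccm]
      inv_mem' := by
        rintro g ⟨a, ha, ea⟩
        refine ⟨(cj L g⁻¹ a)⁻¹, inv_mem (cj_mem_psi L q ha g⁻¹), ?_⟩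
        have h1 : linMul (cj L g⁻¹ a) (cc g⁻¹ φ) = φ := by rw [← hcc, ea, ← hccm, mul_inv_cancel, hcc1]
        conv_lhs => rw [← h1]
        rw [← hmulL, hom_inv_mul]
        exact Subtype.ext (funext fun x => by simp [linMul]) }
  obtain ⟨t, htS, htq, htgen⟩ := exists_gen_coprime c.fq.prime L S c.fq.cyclic c.fq.not_dvd
  -- a fixed point in the coset
  let Ω := {ψ : IrrCharacter L // InO ψ}
  letI act : MulAction (psi L q) Ω :=
    { smul := fun a ψ => ⟨linMul (a : L →* ℂˣ) ψ.1, by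
        obtain ⟨b, hb, e⟩ := ψ.2
        exact ⟨a * b, mul_mem a.2 hb, by rw [hmulL, e]⟩⟩
      one_smul := fun ψ => Subtype.ext (Subtype.ext (funext fun x => by
        show ((1 : L →* ℂˣ) x : ℂ) * (ψ.1 : L → ℂ) x = _
        rw [MonoidHom.one_apply, Units.val_one, one_mul]))
      mul_smul := fun a b ψ => Subtype.ext (hmulL a b ψ.1) }
  have hcj : ∀ (g : F) (a : psi L q), cj L g (a : L →* ℂˣ) ∈ psi L q := fun g a =>
    cj_mem_psi L q a.2 g
  let cjE : F → MulAut (psi L q) := fun g =>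
    { toFun := fun a => ⟨cj L g⁻¹ a, hcj g⁻¹ a⟩
      invFun := fun a => ⟨cj L g a, hcj g a⟩
      left_inv := fun a => Subtype.ext (by
        show cj L g (cj L g⁻¹ a) = a
        rw [← cj_mul, inv_mul_cancel, cj_one])
      right_inv := fun a => Subtype.ext (by
        show cj L g⁻¹ (cj L g a) = a
        rw [← cj_mul, mul_inv_cancel, cj_one])
      map_mul' := fun a b => Subtype.ext (map_mul (cj L g⁻¹) (a : L →* ℂˣ) b) }
  let φA : Subgroup.zpowers t →* MulAut (psi L q) :=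
    { toFun := fun a => cjE a
      map_one' := MulEquiv.ext fun a => Subtype.ext (by
        show cj L ((1 : Subgroup.zpowers t) : F)⁻¹ a = a
        rw [OneMemClass.coe_one, inv_one, cj_one])
      map_mul' := fun a b => MulEquiv.ext fun x => Subtype.ext (by
        show cj L ((a : F) * b)⁻¹ x = cj L (a : F)⁻¹ (cj L (b : F)⁻¹ x)
        rw [mul_inv_rev, cj_mul]) }
  have hS : ∀ a : Subgroup.zpowers t, (a : F) ∈ S := fun a => (Subgroup.zpowers_le.2 htS) a.2
  have hΩ : ∀ g ∈ S, ∀ ψ : Ω, InO (cc g ψ.1) := by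
    rintro g ⟨a, ha, ea⟩ ⟨ψ, b, hb, eb⟩
    refine ⟨cj L g b * a, mul_mem (cj_mem_psi L q hb g) ha, ?_⟩
    show _ = cc g ψ
    rw [hmulL, ea, ← hcc, eb]
  obtain ⟨⟨φ0, hφ0⟩, hfix⟩ := exists_fixed_of_abelian_transitive (A := Subgroup.zpowers t)
    (Lam := psi L q) (Ω := Ω) φA (fun a ψ => ⟨cc (a : F)⁻¹ ψ.1, hΩ _ (inv_mem (hS a)) ψ⟩)
    (fun a b ψ => Subtype.ext (by
      show cc ((a : F) * b)⁻¹ ψ.1 = cc (a : F)⁻¹ (cc (b : F)⁻¹ ψ.1)
      rw [mul_inv_rev, hccm]))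
    (fun a l ψ => Subtype.ext (hcc _ _ _))
    (fun ψ ψ' => by
      obtain ⟨a, ha, ea⟩ := ψ.2
      obtain ⟨b, hb, eb⟩ := ψ'.2
      refine ⟨⟨b * a⁻¹, mul_mem hb (inv_mem ha)⟩, Subtype.ext ?_⟩
      show linMul (b * a⁻¹) ψ.1 = ψ'.1
      rw [← ea, ← hmulL, hom_mul_inv_mul, eb])
    (by
      rw [Nat.card_zpowers]
      have := Fact.mk c.fq.prime
      obtain ⟨j, hj⟩ := IsPGroup.iff_card.1 c.isPGroup_psi
      rw [hj]
      exact htq.symm.pow_left j)
    ⟨φ, hInO1⟩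
  have ht0 : cc t φ0 = φ0 := by
    have h := congrArg Subtype.val (hfix ⟨t, Subgroup.mem_zpowers t⟩)
    change cc t⁻¹ φ0 = φ0 at h
    conv_lhs => rw [← h]
    rw [← hccm, inv_mul_cancel, hcc1]
  -- every twist has inertia group `S`
  have hmemI : ∀ (g : F) (ψ : IrrCharacter L), g ∈ inertia L (ψ : L → ℂ) ↔ cc g ψ = ψ := fun g ψ =>
    (mem_inertia L _ g).trans ⟨fun h => Subtype.ext h, fun h => congrArg Subtype.val h⟩
  have hsub : ∀ ψ : IrrCharacter L, InO ψ → inertia L (ψ : L → ℂ) ≤ S := by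
    rintro ψ ⟨a, ha, ea⟩ g hg
    rw [hmemI, ← ea, hcc] at hg
    refine ⟨(cj L g a)⁻¹ * a, mul_mem (inv_mem (cj_mem_psi L q ha g)) ha, ?_⟩
    rw [hmulL, ← hg, ← hmulL, hom_inv_mul]
    exact Subtype.ext (funext fun x => by simp [linMul])
  have hS0 : S ≤ inertia L (φ0 : L → ℂ) := fun s hs => by
    obtain ⟨j, hj⟩ := htgen s hs
    have htI : t ∈ inertia L (φ0 : L → ℂ) := (hmemI t φ0).2 ht0
    have h1 := (inertia L (φ0 : L → ℂ)).mul_mem (pow_mem htI j)
      (le_inertia_irr L φ0 (inv_mem hj))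
    rwa [mul_inv_rev, inv_inv, mul_inv_cancel_left] at h1
  have hdeg : ∀ ψ : IrrCharacter L, InO ψ → charDegree (ψ : L → ℂ) = charDegree (φ : L → ℂ) := by
    rintro ψ ⟨a, -, rfl⟩
    rw [degree_eq_iff]
    show ((a 1 : ℂˣ) : ℂ) * (φ : L → ℂ) 1 = _
    rw [map_one, Units.val_one, one_mul, Block.ItoMichler.one_eq_cast]
  have hφpos := degree_pos φ
  have hall : ∀ ψ : IrrCharacter L, InO ψ → inertia L (ψ : L → ℂ) = S := by
    intro ψ hψ
    refine le_antisymm (hsub ψ hψ) ?_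
    have hS0' : S = inertia L (φ0 : L → ℂ) := le_antisymm hS0 (hsub φ0 hφ0)
    obtain ⟨χ, hχ, -⟩ := exists_over_cyclic L c.fq.cyclic φ0
    obtain ⟨χ', hχ', -⟩ := exists_over_cyclic L c.fq.cyclic ψ
    rw [hdeg φ0 hφ0, ← hS0'] at hχ
    rw [hdeg ψ hψ] at hχ'
    have hpos : 0 < S.index := Nat.pos_of_ne_zero Subgroup.index_ne_zero_of_finite
    have hge : charDegree (φ : L → ℂ) ≤ S.index * charDegree (φ : L → ℂ) := Nat.le_mul_of_pos_left _ hpos
    have he := c.hyp.nd.eq_of_dvd ⟨χ, hχ⟩ ⟨χ', hχ'⟩ (by omega)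
      (Nat.mul_dvd_mul_right (Subgroup.index_dvd_of_le (hsub ψ hψ)) _)
    have he' := Nat.eq_of_mul_eq_mul_right hφpos he
    have h2 := Subgroup.relIndex_mul_index (hsub ψ hψ)
    rw [← he', Nat.mul_eq_right Subgroup.index_ne_zero_of_finite] at h2
    exact Subgroup.relIndex_eq_one.1 h2
  -- one element outside `L` fixes all twists
  obtain ⟨g, hgI, hgL⟩ := SetLike.exists_of_lt (c.lt_inertia φ hφ)
  have hgS : g ∈ S := hall φ hInO1 ▸ hgI
  have hkey : ∀ ν ∈ psi L q, linMul (cj L g ν * ν⁻¹) φ = φ := by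
    intro ν hν
    have h1 : g ∈ inertia L (linMul ν φ : L → ℂ) := (hall _ ⟨ν, hν, rfl⟩).symm ▸ hgS
    rw [hmemI, hcc, (hmemI g φ).1 hgI] at h1
    rw [hom_mul_comm, hmulL, h1, ← hmulL, hom_inv_mul, hone]
  let D : psi L q → psi L q := fun ν =>
    ⟨cj L g ν * (ν : L →* ℂˣ)⁻¹, mul_mem (hcj g ν) (inv_mem ν.2)⟩
  have hD : Function.Injective D := by
    intro a b e
    have e' : cj L g a * (a : L →* ℂˣ)⁻¹ = cj L g b * (b : L →* ℂˣ)⁻¹ := congrArg Subtype.val e
    have h1 : cj L g ((a : L →* ℂˣ) * (b : L →* ℂˣ)⁻¹) = (a : L →* ℂˣ) * (b : L →* ℂˣ)⁻¹ :=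
      MonoidHom.ext fun x => by
        have hx := DFunLike.congr_fun e' x
        simp only [MonoidHom.mul_apply, MonoidHom.inv_apply, cj_apply] at hx ⊢
        rw [mul_inv_eq_iff_eq_mul] at hx
        rw [hx]
        simp [mul_assoc, mul_comm, mul_left_comm]
    have h2 := c.psi_free (mul_mem a.2 (inv_mem b.2)) hgL h1
    refine Subtype.ext (MonoidHom.ext fun x => ?_)
    have hx := DFunLike.congr_fun h2 x
    rwa [MonoidHom.mul_apply, MonoidHom.inv_apply, MonoidHom.one_apply, mul_inv_eq_one] at hx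
  obtain ⟨⟨ν, hν⟩, e⟩ := Finite.injective_iff_surjective.1 hD ⟨μ, hμ⟩
  have e' : cj L g ν * ν⁻¹ = μ := congrArg Subtype.val e
  rw [← e']
  exact hkey ν hν

/-- Nonlinear characters of `L` vanish outside the common kernel. -/
theorem vanish (c : Ctx α E R L q) (φ : IrrCharacter L) (hφ : charDegree (φ : L → ℂ) ≠ 1) {x : L}
    (hx : x ∉ psiKer L q) : (φ : L → ℂ) x = 0 := by
  rw [mem_psiKer] at hx
  push Not at hx
  obtain ⟨μ, hμ, hμx⟩ := hx
  have h := congrFun (congrArg Subtype.val (c.twist φ hφ hμ)) x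
  simp only [linMul] at h
  by_contra hne
  exact hμx (Units.ext ((mul_eq_right₀ hne).1 h))

/-- The prime divides all nonlinear degrees of `L`. -/
theorem dvd_degree (c : Ctx α E R L q) (φ : IrrCharacter L) (hφ : charDegree (φ : L → ℂ) ≠ 1) :
    q ∣ charDegree (φ : L → ℂ) := by
  obtain ⟨μ, hμ, hμ1⟩ := c.exists_psi_ne_one
  obtain ⟨⟨k, hk⟩, -⟩ := (mem_psi L q).1 hμ
  by_contra hnd
  exact hμ1 (hom_eq_one μ hk (pow_degree_eq_one φ μ (c.twist φ hφ hμ))
    ((c.fq.prime.coprime_iff_not_dvd.2 hnd).pow_left k))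

/-- The normal `q`-complement of `L`. -/
theorem exists_complement (c : Ctx α E R L q) :
    ∃ P : Subgroup L, P.Normal ∧ (Nat.card P).Coprime q ∧ (∃ k, P.index = q ^ k) ∧
      ∀ x : L, x ∈ P ↔ (orderOf x).Coprime q := by
  obtain ⟨P, hPn, hPc, k, hk⟩ := Cfsg.Agent.S4456.result q c.fq.prime c.dvd_degree
  refine ⟨P, hPn, hPc, ⟨k, hk⟩, fun x => ⟨fun hx => ?_, fun hx => ?_⟩⟩
  · exact hPc.coprime_dvd_left (by rw [← Subgroup.orderOf_mk x hx]; exact orderOf_dvd_natCard _)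
  · have := hPn
    refine (QuotientGroup.eq_one_iff x).1 (orderOf_eq_one_iff.1 (Nat.eq_one_of_dvd_coprimes
      (hx.pow_right k) (orderOf_map_dvd (QuotientGroup.mk' P) x) ?_))
    rw [← hk, Subgroup.index_eq_card]
    exact orderOf_dvd_natCard _

theorem mem_psiKer_of_coprime (c : Ctx α E R L q) {x : L} (hx : (orderOf x).Coprime q) :
    x ∈ psiKer L q := by
  rw [mem_psiKer]
  intro μ hμ
  obtain ⟨⟨k, hk⟩, -⟩ := (mem_psi L q).1 hμ
  have h1 := DFunLike.congr_fun hk x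
  rw [MonoidHom.pow_apply, MonoidHom.one_apply] at h1
  exact eq_one_of_pow_coprime h1 (by rw [← map_pow, pow_orderOf_eq_one, map_one]) ((hx.pow_right k).symm)

end Ctx

end CfsgLib.Char.NoDiv
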